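import Groth.Agent.Deform.K682.DualThick
import Mathlib.AlgebraicGeometry.Morphisms.Finite

/-!
# The data attached to `X ×_k k[ε]`
-/

set_option autoImplicit false

universe u

open CategoryTheory Limits AlgebraicGeometry TopologicalSpace Opposite

namespace K682.DualDat

open Groth.Agent.Fdesc.LocGen K682.DualThick

/-- The basis `1, ε` of the dual numbers. -/
noncomputable def basis (k : Type u) [Field k] : Module.Basis (Fin 2) k (DualNumber k) :=
  Module.Basis.ofEquivFun (LinearEquiv.trans (LinearEquiv.refl k (k × k) : DualNumber k ≃ₗ[k] k × k)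
    (LinearEquiv.finTwoArrow k k).symm)

theorem basis_zero (k : Type u) [Field k] : basis k 0 = 1 := by
  rw [basis, Module.Basis.coe_ofEquivFun]
  apply TrivSqZeroExt.ext
  · change (Pi.single 0 1 : Fin 2 → k) 0 = 1
    simp
  · change (Pi.single 0 1 : Fin 2 → k) 1 = 0
    simp

theorem basis_one (k : Type u) [Field k] : basis k 1 = DualNumber.eps := by
  rw [basis, Module.Basis.coe_ofEquivFun]
  apply TrivSqZeroExt.ext
  · change (Pi.single 1 1 : Fin 2 → k) 0 = 0
    simp
  · change (Pi.single 1 1 : Fin 2 → k) 1 = 1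
    simp

variable {k : Type u} [Field k] {X Y : Scheme.{u}} {x : X ⟶ Spec (CommRingCat.of k)} {q : Y ⟶ X}
  {p : Y ⟶ Spec (CommRingCat.of (DualNumber k))}

theorem surjective_fst (k : Type u) [Field k] :
    Surjective (Spec.map (CommRingCat.ofHom (TrivSqZeroExt.fstHom k k k).toRingHom)) := by
  have h : Function.Surjective (PrimeSpectrum.comap (TrivSqZeroExt.fstHom k k k).toRingHom) := by
    rw [← Set.range_eq_univ, range_comap_of_surjective _ _ TrivSqZeroExt.fst_surjective,
      Set.eq_univ_iff_forall]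
    intro y z hz
    have hz' : (z : DualNumber k).fst = 0 := hz
    have hz2 : z * z = 0 := by
      apply TrivSqZeroExt.ext
      · rw [TrivSqZeroExt.fst_mul, hz', mul_zero]; rfl
      · rw [TrivSqZeroExt.snd_mul, hz']; simp
    have h0 : z * z ∈ y.asIdeal := by rw [hz2]; exact zero_mem _
    exact (or_self_iff).mp (y.2.mem_or_mem h0)
  exact ⟨h⟩

theorem isPullback_i (hsq : IsPullback q p x (Spec.map (CommRingCat.ofHom (algebraMap k (DualNumber k)))))
    (i : X ⟶ Y) (hiq : i ≫ q = 𝟙 X)
    (hip : i ≫ p = x ≫ Spec.map (CommRingCat.ofHom (TrivSqZeroExt.fstHom k k k).toRingHom)) :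
    IsPullback i x p (Spec.map (CommRingCat.ofHom (TrivSqZeroExt.fstHom k k k).toRingHom)) := by
  refine IsPullback.of_right ?_ hip hsq
  rw [hiq, ← Spec.map_comp, ← CommRingCat.ofHom_comp]
  have h : (TrivSqZeroExt.fstHom k k k).toRingHom.comp (algebraMap k (DualNumber k)) = RingHom.id k := rfl
  rw [h]
  have h1 : Spec.map (CommRingCat.ofHom (RingHom.id k)) = 𝟙 _ := Spec.map_id _
  rw [h1]
  exact IsPullback.of_horiz_isIso ⟨by simp⟩

theorem i_q (hsq : IsPullback q p x (Spec.map (CommRingCat.ofHom (algebraMap k (DualNumber k)))))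
    (i : X ⟶ Y) (hiq : i ≫ q = 𝟙 X)
    (hip : i ≫ p = x ≫ Spec.map (CommRingCat.ofHom (TrivSqZeroExt.fstHom k k k).toRingHom)) (y : Y) :
    i (q y) = y := by
  have h1 : Surjective i := by
    have := surjective_fst k
    exact MorphismProperty.of_isPullback (isPullback_i hsq i hiq hip).flip inferInstance
  obtain ⟨z, rfl⟩ := i.surjective y
  have h2 : q (i z) = (i ≫ q) z := rfl
  rw [h2, hiq]
  rfl

/-- The data of a trivial dual number thickening. -/
noncomputable def dat (hsq : IsPullback q p x (Spec.map (CommRingCat.ofHom (algebraMap k (DualNumber k)))))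
    (i : X ⟶ Y) (hiq : i ≫ q = 𝟙 X)
    (hip : i ≫ p = x ≫ Spec.map (CommRingCat.ofHom (TrivSqZeroExt.fstHom k k k).toRingHom)) : Dat X Y where
  q := q
  i := i
  e := Groth.Agent.Fga.FreeSec.fn p DualNumber.eps
  hiq := hiq
  hqi := i_q hsq i hiq hip
  hee := by rw [← map_mul, DualNumber.eps_mul_eps, map_zero]
  hie := by
    have h1 : i.appTop (p.appTop ((Scheme.ΓSpecIso (CommRingCat.of (DualNumber k))).inv DualNumber.eps)) =
        (i ≫ p).appTop ((Scheme.ΓSpecIso (CommRingCat.of (DualNumber k))).inv DualNumber.eps) := by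
      rw [Scheme.Hom.comp_appTop]; rfl
    have h2 : i.appTop (p.appTop ((Scheme.ΓSpecIso (CommRingCat.of (DualNumber k))).inv DualNumber.eps)) = 0 := by
      rw [h1, hip, Scheme.Hom.comp_appTop]
      have h3 := ConcreteCategory.congr_hom (Scheme.ΓSpecIso_inv_naturality
        (CommRingCat.ofHom (TrivSqZeroExt.fstHom k k k).toRingHom)) DualNumber.eps
      have h4 : (Spec.map (CommRingCat.ofHom (TrivSqZeroExt.fstHom k k k).toRingHom)).appTop
        ((Scheme.ΓSpecIso (CommRingCat.of (DualNumber k))).inv DualNumber.eps) =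
        (Scheme.ΓSpecIso (CommRingCat.of k)).inv ((TrivSqZeroExt.fstHom k k k).toRingHom DualNumber.eps) := h3.symm
      change x.appTop ((Spec.map (CommRingCat.ofHom (TrivSqZeroExt.fstHom k k k).toRingHom)).appTop
        ((Scheme.ΓSpecIso (CommRingCat.of (DualNumber k))).inv DualNumber.eps)) = 0
      rw [h4]
      have h5 : (TrivSqZeroExt.fstHom k k k).toRingHom DualNumber.eps = 0 := rfl
      rw [h5, map_zero, map_zero]
    exact h2
  bij U := by
    have h1 := Groth.Agent.Fga.FreeSec.bijective_secs (basis k) hsq U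
    have h2 := h1.comp (finTwoArrowEquiv Γ(X, U)).symm.bijective
    convert h2 using 1
    funext ab
    rw [Function.comp_apply, Groth.Agent.Fga.FreeSec.comb, Fin.sum_univ_two, basis_zero, basis_one, map_one, map_one,
      mul_one]
    rfl

@[simp] theorem dat_q (hsq : IsPullback q p x (Spec.map (CommRingCat.ofHom (algebraMap k (DualNumber k)))))
    (i : X ⟶ Y) (hiq : i ≫ q = 𝟙 X)
    (hip : i ≫ p = x ≫ Spec.map (CommRingCat.ofHom (TrivSqZeroExt.fstHom k k k).toRingHom)) :
    (dat hsq i hiq hip).q = q := rfl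

@[simp] theorem dat_i (hsq : IsPullback q p x (Spec.map (CommRingCat.ofHom (algebraMap k (DualNumber k)))))
    (i : X ⟶ Y) (hiq : i ≫ q = 𝟙 X)
    (hip : i ≫ p = x ≫ Spec.map (CommRingCat.ofHom (TrivSqZeroExt.fstHom k k k).toRingHom)) :
    (dat hsq i hiq hip).i = i := rfl

end K682.DualDat
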