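import Groth.Agent.Dual.H328.WUniv
import Groth.Agent.Dual.H307.BcGen
import Groth.Agent.Dual.H375.OneDeg
import Groth.Agent.Dual.H320.InvPt
import Groth.Agent.Dual.H373.Core
import Groth.Agent.S1002
import Groth.Agent.S3614
import Groth.Agent.S3616
import Groth.Agent.S0998
import Groth.Agent.S1766

/-!
# Invertible relative dualizing sheaves of flat proper Gorenstein morphisms

`IsRD f n L`: `f^! O_Y = L[n]` (universal property on `D_QCoh`).
* `IsRD.unique`, `IsRD.baseChange`;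
* `exists_isRD`: `f` flat proper Gorenstein with fibres of pure dimension `n`, `Y` Noetherian;
* `isRD_dualizingMod`, `nonempty_iso_dualizingMod`: comparison with `DCoh.dualizingMod`.
-/

set_option autoImplicit false
universe u
open CategoryTheory CategoryTheory.Limits AlgebraicGeometry
attribute [local instance] HasDerivedCategory.standard

namespace K682.RelDual

open Groth.Agent Groth.Agent.Ega1.ADualUniv
open Groth.Agent.PerfA.Restrict (restrictD stalkAb stalkRestrict)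

variable {X Y X' Y' : Scheme.{u}}

/-- `f^! O_Y = L[n]`. -/
def IsRD (f : X ⟶ Y) [DCoh.HasRpush f] (n : ℕ) (L : X.Modules) : Prop :=
  Univ f (DCoh.inD Y (Coh.structureModule Y)) ((DCoh.inD X L)⟦(n : ℤ)⟧)

theorem nonempty_iso_of_shift {L L' : X.Modules} (n : ℕ)
    (e : (DCoh.inD X L)⟦(n : ℤ)⟧ ≅ (DCoh.inD X L')⟦(n : ℤ)⟧) : Nonempty (L ≅ L') := by
  obtain ⟨e1⟩ := Dual.H328.WUniv.nonempty_HD_inD_shift L (n : ℤ) (-(n : ℤ)) (by omega)
  obtain ⟨e2⟩ := Dual.H328.WUniv.nonempty_HD_inD_shift L' (n : ℤ) (-(n : ℤ)) (by omega)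
  exact ⟨e1.symm ≪≫ (DerivedCategory.homologyFunctor X.Modules (-(n : ℤ))).mapIso e ≪≫ e2⟩

theorem IsRD.unique {f : X ⟶ Y} [DCoh.HasRpush f] {n : ℕ} {L L' : X.Modules} (h : IsRD f n L)
    (h' : IsRD f n L') : Nonempty (L ≅ L') := by
  obtain ⟨e⟩ := Univ.unique h h'
  exact nonempty_iso_of_shift n e

/-- Base change of the relative dualizing sheaf. -/
theorem IsRD.baseChange [CompactSpace X] [QuasiSeparatedSpace X] [CompactSpace Y] [QuasiSeparatedSpace Y]
    [CompactSpace X'] [QuasiSeparatedSpace X'] [CompactSpace Y'] [QuasiSeparatedSpace Y']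
    {f : X ⟶ Y} {g : Y' ⟶ Y} {f' : X' ⟶ Y'} {g' : X' ⟶ X} [DCoh.HasRpush f] [DCoh.HasRpush f']
    [IsProper f] [Flat f] [LocallyOfFinitePresentation f] (hsq : IsPullback g' f' f g)
    {n : ℕ} {L : X.Modules} (hL : PicF.IsInvertible L) (h : IsRD f n L) :
    IsRD f' n ((Scheme.Modules.pullback g').obj L) := by
  have h1 : DCoh.HasLpull g := Groth.Agent.Dcoh.DerPull.hasLpull g
  have h2 : DCoh.HasLpull g' := Groth.Agent.Dcoh.DerPull.hasLpull g'
  have hq : DCoh.IsQCohD (DCoh.inD Y (Coh.structureModule Y)) :=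
    PerfA.QCohD.isQCohD_inD _ (Fdesc.StructMod.isQCoh_structureModule Y)
  have hb := Dual.H307.BcGen.univ_bc (Or.inl inferInstance) hsq (fun P hP => S1002.result f P hP) hq h
  let e1 : (DCoh.Lpull g).obj (DCoh.inD Y (Coh.structureModule Y)) ≅ DCoh.inD Y' (Coh.structureModule Y') :=
    (DCoh.Lpull g).mapIso Dual.H339.Twist.ODIso.symm ≪≫ PerfC.LpullTens.lpullUnit g ≪≫ Dual.H339.Twist.ODIso
  obtain ⟨e2⟩ := Dual.H328.WUniv.nonempty_lpull_shift g' n hL
  exact (hb.of_iso_right e1).of_iso_left e2 (PerfA.QCohD.isQCohD_of_iso e2 hb.qcoh)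

/-- An invertible object of `D(O_X)` with cohomology in degree `-n` only is `L[n]` with `L` invertible. -/
theorem isInvertible_HD {K : DCoh.D X} (h : ∀ x : X, Dual.H320.InvPt.InvAt K x) (n : ℕ)
    (hz : ∀ i : ℤ, i ≠ -(n : ℤ) → IsZero (DCoh.HD K i)) : PicF.IsInvertible (DCoh.HD K (-(n : ℤ))) := by
  intro x
  obtain ⟨U, m, hx, ⟨e⟩⟩ := Dual.H320.InvPt.isInvertibleD_of_forall K h x
  have e' : ∀ i : ℤ, DCoh.HD ((DCoh.inD (U : Scheme.{u}) (Coh.structureModule (U : Scheme.{u})))⟦m⟧) i ≅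
      (DCoh.HD K i).restrict U.ι := fun i =>
    (DerivedCategory.homologyFunctor _ i).mapIso e.symm ≪≫ PerfA.Restrict.HDrestrict U.ι K i
  have hm : m = (n : ℤ) := by
    by_contra hm
    have h1 := (Dual.H375.OneDeg.nontrivial_stalk_shift (U : Scheme.{u}) m (-m) ⟨x, hx⟩).2 rfl
    rw [Dual.H375.OneDeg.nontrivial_stalk_congr (e' (-m)), Dual.H375.OneDeg.nontrivial_stalk_restrict U.ι] at h1
    have h2 : Subsingleton ((DCoh.HD K (-m)).presheaf.stalk x) :=
      AddCommGrpCat.subsingleton_of_isZero ((stalkAb x).map_isZero (hz (-m) (by omega)))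
    exact not_nontrivial_iff_subsingleton.2 h2 h1
  subst hm
  obtain ⟨e2⟩ := Dual.H328.WUniv.nonempty_HD_inD_shift (Coh.structureModule (U : Scheme.{u})) (n : ℤ)
    (-(n : ℤ)) (by omega)
  exact ⟨U, hx, ⟨(e' (-(n : ℤ))).symm ≪≫ e2⟩⟩

theorem nonempty_iso_shift {K : DCoh.D X} (n : ℕ) (hz : ∀ i : ℤ, i ≠ -(n : ℤ) → IsZero (DCoh.HD K i)) :
    Nonempty (K ≅ (DCoh.inD X (DCoh.HD K (-(n : ℤ))))⟦(n : ℤ)⟧) := by
  refine Dual.H339.TwistFull.exists_iso_inD K (-(n : ℤ)) (n : ℤ) ?_ ?_ (by omega)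
  · rw [DerivedCategory.isLE_iff]
    exact fun q hq => hz q (by omega)
  · rw [DerivedCategory.isGE_iff]
    exact fun q hq => hz q (by omega)

/-- Values of `f^!` for a flat proper Gorenstein morphism with fibres of pure dimension `n`. -/
theorem exists_isRD [IsNoetherian Y] (f : X ⟶ Y) [Flat f] [IsProper f] [DCoh.HasRpush f]
    (hG : Dual3.IsGorensteinMor f) (n : ℕ)
    (hd : ∀ (y : Y) (Z : Set ↥(f.fiber y)), Z ∈ irreducibleComponents ↥(f.fiber y) →
      topologicalKrullDim ↥Z = (n : WithBot ℕ∞)) :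
    ∃ L : X.Modules, PicF.IsInvertible L ∧ IsRD f n L := by
  have hX : IsNoetherian X := LoccohB.AdStruct.isNoetherian_of_finiteType f
  have hf : DCoh.RpushPreservesQCoh f := fun K hK => S0998.result f K hK
  have hs : DCoh.HasShriek f hf := S1766.result X Y f hf
  have hq : DCoh.IsQCohD (DCoh.inD Y (Coh.structureModule Y)) :=
    PerfA.QCohD.isQCohD_inD _ (Fdesc.StructMod.isQCoh_structureModule Y)
  let O : DCoh.DQCoh Y := ⟨DCoh.inD Y (Coh.structureModule Y), hq⟩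
  let c : DEt.Compactification f := ⟨X, 𝟙 X, f, inferInstance, inferInstance, Category.id_comp _⟩
  have i1 : Dual3.IsSepFT f := ⟨inferInstance, inferInstance, inferInstance⟩
  have i2 : Dual3.IsSepFT (𝟙 Y) := ⟨inferInstance, inferInstance, inferInstance⟩
  have i3 : DCoh.HasRpush c.fbar := inferInstanceAs (DCoh.HasRpush f)
  have adj : DCoh.RpushQ f hf ⊣ DCoh.shriek f hf := DCoh.shriekAdj f hf
  obtain ⟨hz, -, -⟩ := S3614.result Y X Y f (𝟙 Y) f (Category.comp_id _)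
    (fun x => Dual.H373.Core.isCMAt_of_isGorensteinAt f x (hG x)) n hd c hf (DCoh.shriek f hf) adj O ⟨Iso.refl _⟩
  obtain ⟨hinv, -⟩ := S3616.result Y X Y f (𝟙 Y) f (Category.comp_id _) c hf (DCoh.shriek f hf) adj O
    ⟨Iso.refl _⟩
  have hu : Univ f O.obj ((DCoh.shriek f hf).obj O).obj := univ_of_adj (h := hf) adj O
  have e : ((DCoh.shriek f hf).obj O).obj ≅ (Dual3.shriekC c (DCoh.shriek f hf)).obj O :=
    ((Dcoh.LocalD.restrictIdIso X).app _).symm
  have hI : ∀ x : X, Dual.H320.InvPt.InvAt ((Dual3.shriekC c (DCoh.shriek f hf)).obj O) x := fun x =>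
    (Dual.H320.InvPt.invAt_iff _ x).2 ((hinv x).1 (hG x))
  obtain ⟨e2⟩ := nonempty_iso_shift n hz
  refine ⟨_, isInvertible_HD hI n hz, ?_⟩
  exact hu.of_iso_left (e ≪≫ e2) (PerfA.QCohD.isQCohD_of_iso (e ≪≫ e2) hu.qcoh)

/-- Comparison with the dualizing module of the prelude. -/
theorem nonempty_iso_dualizingMod (f : X ⟶ Y) [DCoh.HasRpush f] (h : DCoh.RpushPreservesQCoh f)
    [DCoh.HasShriek f h] (OY : DCoh.DQCoh Y)
    (hOY : Nonempty (OY.obj ≅ DCoh.inD Y (Coh.structureModule Y))) {n : ℕ} {L : X.Modules}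
    (hL : IsRD f n L) : Nonempty (L ≅ DCoh.dualizingMod f h OY n) := by
  obtain ⟨eO⟩ := hOY
  have adj : DCoh.RpushQ f h ⊣ DCoh.shriek f h := DCoh.shriekAdj f h
  have hu : Univ f OY.obj ((DCoh.shriek f h).obj OY).obj := univ_of_adj (h := h) adj OY
  obtain ⟨e⟩ := Univ.unique hL (hu.of_iso_right eO)
  obtain ⟨e1⟩ := Dual.H328.WUniv.nonempty_HD_inD_shift L (n : ℤ) (-(n : ℤ)) (by omega)
  exact ⟨e1.symm ≪≫ (DerivedCategory.homologyFunctor X.Modules (-(n : ℤ))).mapIso e⟩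

end K682.RelDual
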