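import Groth.Agent.Pi1.H386.NormalCurve
import Groth.Agent.VarietyB.FinNormField
import Groth.Agent.Props.K592.ClosedPts
import Groth.Agent.Lefpen.H416.NormalBase
import Groth.Agent.Fga.DimCut
import Groth.Agent.FlatA.DimFin

/-!
# Smooth curves through a rational point of an affine variety

* `exists_prime_max`: in a Noetherian domain, a nonzero prime `m` contains a prime `q` adjacent to `m` avoiding a given
  nonzero element.
* `exists_curve`: for a domain `A` of finite type over an algebraically closed field, a rational point `ε` which is not the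
  generic point and `f ≠ 0`, there is a smooth affine integral curve `Spec B → Spec A` with a rational point over `ε` whose
  generic point lies in `D(f)`.
-/

set_option autoImplicit false

universe u

open CategoryTheory AlgebraicGeometry

namespace K682.CurveThrough

theorem exists_prime_max {A : Type u} [CommRing A] [IsNoetherianRing A] [IsDomain A] (m : Ideal A) [m.IsPrime]
    (hm : m ≠ ⊥) (f : A) (hf : f ≠ 0) :
    ∃ q : Ideal A, q.IsPrime ∧ q < m ∧ f ∉ q ∧ ∀ q' : Ideal A, q'.IsPrime → q < q' → ¬ q' < m := by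
  obtain ⟨q, ⟨hq1, hq2, hq3⟩, hq4⟩ := set_has_maximal_iff_noetherian.mpr (inferInstanceAs (IsNoetherian A A))
    {q : Ideal A | q.IsPrime ∧ q < m ∧ f ∉ q} ⟨⊥, Ideal.isPrime_bot, bot_lt_iff_ne_bot.mpr hm, by simpa using hf⟩
  refine ⟨q, hq1, hq2, hq3, fun q' hq' hlt hlt' => ?_⟩
  obtain ⟨q'', h1, h2, h3, h4⟩ := K592.ClosedPts.exists_prime_between f q q' m hlt hlt' hq3
  exact hq4 q'' ⟨h1, h3, h4⟩ h2

theorem height_map_eq_one {A : Type u} [CommRing A] [IsNoetherianRing A] (q m : Ideal A) [q.IsPrime] [m.IsPrime]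
    (hqm : q < m) (hmax : ∀ q' : Ideal A, q'.IsPrime → q < q' → ¬ q' < m) :
    (m.map (Ideal.Quotient.mk q)).height = 1 := by
  have hp : (m.map (Ideal.Quotient.mk q)).IsPrime := Ideal.isPrime_map_quotientMk_of_isPrime hqm.le
  have hcomap : ∀ I : Ideal A, q ≤ I → (I.map (Ideal.Quotient.mk q)).comap (Ideal.Quotient.mk q) = I := fun I hI => by
    rw [Ideal.comap_map_of_surjective' _ Ideal.Quotient.mk_surjective, Ideal.mk_ker]
    exact sup_eq_left.2 hI
  have hne : m.map (Ideal.Quotient.mk q) ≠ ⊥ := by
    intro h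
    have h1 := hcomap m hqm.le
    rw [h, ← RingHom.ker_eq_comap_bot, Ideal.mk_ker] at h1
    exact hqm.ne h1
  apply le_antisymm
  · have h1 : (m.map (Ideal.Quotient.mk q)).height ≤ ((1 : ℕ) : ℕ∞) := by
      rw [Ideal.height_le_iff]
      intro P hP hlt
      have h2 : P = ⊥ := by
        by_contra hP0
        have h3 : q < P.comap (Ideal.Quotient.mk q) := by
          refine lt_of_le_of_ne ?_ ?_
          · intro x hx
            rw [Ideal.mem_comap, Ideal.Quotient.eq_zero_iff_mem.mpr hx]
            exact zero_mem P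
          · intro h
            apply hP0
            rw [eq_bot_iff]
            intro x hx
            obtain ⟨x, rfl⟩ := Ideal.Quotient.mk_surjective x
            have : x ∈ P.comap (Ideal.Quotient.mk q) := hx
            rw [← h] at this
            rw [Ideal.mem_bot, Ideal.Quotient.eq_zero_iff_mem]
            exact this
        refine hmax _ (hP.comap _) h3 ?_
        refine lt_of_le_of_ne ?_ ?_
        · rw [← hcomap m hqm.le]
          exact Ideal.comap_mono hlt.le
        · intro h
          apply hlt.ne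
          rw [← h, Ideal.map_comap_of_surjective _ Ideal.Quotient.mk_surjective]
      rw [h2, Ideal.height_bot]
      exact zero_lt_one
    exact_mod_cast h1
  · rw [Order.one_le_iff_ne_zero]
    intro h
    exact hne (Ideal.height_eq_zero_iff_eq_bot.mp h)

theorem exists_rational_point (k : Type u) [Field k] [IsAlgClosed k] (B : Type u) [CommRing B] [Algebra k B]
    [Algebra.FiniteType k B] (M : Ideal B) [M.IsMaximal] : ∃ δ : B →ₐ[k] k, RingHom.ker δ = M := by
  let _ : Field (B ⧸ M) := Ideal.Quotient.field M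
  have hfin : Module.Finite k (B ⧸ M) := finite_of_finite_type_of_isJacobsonRing k (B ⧸ M)
  let e : k ≃ₐ[k] (B ⧸ M) := AlgEquiv.ofBijective (Algebra.ofId k (B ⧸ M))
    (IsAlgClosed.algebraMap_bijective_of_isIntegral (k := k) (K := B ⧸ M))
  refine ⟨e.symm.toAlgHom.comp (Ideal.Quotient.mkₐ k M), ?_⟩
  ext x
  rw [RingHom.mem_ker, AlgHom.comp_apply]
  change e.symm (Ideal.Quotient.mk M x) = 0 ↔ _
  rw [EmbeddingLike.map_eq_zero_iff, Ideal.Quotient.eq_zero_iff_mem]

theorem comp_eq (k : Type u) [Field k] (A B : Type u) [CommRing A] [CommRing B] [Algebra k A] [Algebra k B]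
    (ε : A →ₐ[k] k) (g : A →ₐ[k] B) (δ : B →ₐ[k] k) (h : ∀ a, ε a = 0 → δ (g a) = 0) : δ.comp g = ε := by
  ext a
  have h1 := h (a - algebraMap k A (ε a)) (by rw [map_sub, AlgHom.commutes]; exact sub_self _)
  rw [map_sub, map_sub, AlgHom.commutes, AlgHom.commutes, sub_eq_zero] at h1
  exact h1

theorem topologicalKrullDim_of_height (k : Type u) [Field k] (D : Type u) [CommRing D] [IsDomain D] [Algebra k D]
    [Algebra.FiniteType k D] (M : Ideal D) [M.IsMaximal] (hM : M.height = 1) : ringKrullDim D = 1 := by
  let X := Spec (CommRingCat.of D)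
  let pX : X ⟶ Spec (CommRingCat.of k) := Spec.map (CommRingCat.ofHom (algebraMap k D))
  have hlft : LocallyOfFiniteType pX := by
    rw [HasRingHomProperty.Spec_iff (P := @LocallyOfFiniteType)]
    exact (RingHom.finiteType_algebraMap).mpr inferInstance
  let _ : X.Over (Spec (CommRingCat.of k)) := ⟨pX⟩
  have : LocallyOfFiniteType (X ↘ (Spec (CommRingCat.of k))) := inferInstanceAs (LocallyOfFiniteType pX)
  let x : X := (⟨M, inferInstance⟩ : PrimeSpectrum D)
  have hx : IsClosed ({x} : Set X) := (PrimeSpectrum.isClosed_singleton_iff_isMaximal (x : PrimeSpectrum D)).mpr ‹_›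
  have h1 := Groth.Agent.Fga.DimCut.ringKrullDim_stalk_eq (k := k) X x hx
  have h2 : topologicalKrullDim X = ringKrullDim D := PrimeSpectrum.topologicalKrullDim_eq_ringKrullDim (R := D)
  rw [← h2, ← h1]
  have h3 : ringKrullDim (X.presheaf.stalk x) = ringKrullDim (Localization.AtPrime M) :=
    ringKrullDim_eq_of_ringEquiv (Spec.stalkIso (CommRingCat.of D) x).commRingCatIsoToRingEquiv
  rw [h3, IsLocalization.AtPrime.ringKrullDim_eq_height M, hM]
  rfl

theorem exists_curve (k : Type u) [Field k] [IsAlgClosed k] (A : Type u) [CommRing A] [IsDomain A] [Algebra k A]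
    [Algebra.FiniteType k A] (ε : A →ₐ[k] k) (hε : ∃ a, a ≠ 0 ∧ ε a = 0) (f : A) (hf : f ≠ 0) :
    ∃ (B : Type u) (_ : CommRing B) (_ : IsDomain B) (_ : Algebra k B) (g : A →ₐ[k] B) (δ : B →ₐ[k] k),
      δ.comp g = ε ∧ g f ≠ 0 ∧ Smooth (Spec.map (CommRingCat.ofHom (algebraMap k B))) ∧ ringKrullDim B = 1 := by
  have hN : IsNoetherianRing A := Algebra.FiniteType.isNoetherianRing k A
  let m : Ideal A := RingHom.ker ε
  have hsurj : Function.Surjective ε := fun c => ⟨algebraMap k A c, ε.commutes c⟩
  have hmax : m.IsMaximal := RingHom.ker_isMaximal_of_surjective ε hsurj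
  have hm0 : m ≠ ⊥ := by
    obtain ⟨a, ha, ha'⟩ := hε
    intro h
    apply ha
    have : a ∈ m := ha'
    rw [h] at this
    exact this
  obtain ⟨q, hq, hqm, hfq, hadj⟩ := exists_prime_max m hm0 f hf
  let D := A ⧸ q
  let K := FractionRing D
  let B := integralClosure D K
  have hfin : Module.Finite D B := Groth.Agent.VarietyB.FinNormField.finite_integralClosure_of_finiteType k D K K
  let M : Ideal D := m.map (Ideal.Quotient.mk q)
  have hM1 : M.height = 1 := height_map_eq_one q m hqm hadj
  have hMmax : M.IsMaximal := by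
    refine (Ideal.map_eq_top_or_isMaximal_of_surjective _ Ideal.Quotient.mk_surjective hmax).resolve_left ?_
    intro h
    have : (M.IsPrime) := Ideal.isPrime_map_quotientMk_of_isPrime hqm.le
    exact this.ne_top h
  have hD : ringKrullDim D = 1 := topologicalKrullDim_of_height k D M hM1
  have hint : Algebra.IsIntegral D B := inferInstance
  have hinj : Function.Injective (algebraMap D B) := FaithfulSMul.algebraMap_injective D B
  have hB : ringKrullDim B = 1 := by
    rw [Groth.Agent.FlatA.DimFin.ringKrullDim_eq_of_isIntegral_of_injective D B hinj, hD]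
  obtain ⟨M', hM', hM'M⟩ := Ideal.exists_ideal_over_maximal_of_isIntegral (S := B) M (by
    rw [(RingHom.injective_iff_ker_eq_bot _).mp hinj]
    exact bot_le)
  have hft : Algebra.FiniteType k B := Algebra.FiniteType.trans (S := D) inferInstance inferInstance
  obtain ⟨δ, hδ⟩ := exists_rational_point k B M'
  let g : A →ₐ[k] B := (IsScalarTower.toAlgHom k D B).comp (Ideal.Quotient.mkₐ k q)
  refine ⟨B, inferInstance, inferInstance, inferInstance, g, δ, comp_eq k A B ε g δ fun a ha => ?_, ?_, ?_, hB⟩
  · have h1 : Ideal.Quotient.mk q a ∈ M := Ideal.mem_map_of_mem _ ha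
    have h2 : algebraMap D B (Ideal.Quotient.mk q a) ∈ M' := by
      rw [← Ideal.mem_comap, hM'M]
      exact h1
    rw [← hδ] at h2
    exact h2
  · intro h
    apply hfq
    rw [← Ideal.Quotient.eq_zero_iff_mem]
    apply hinj
    rw [map_zero]
    exact h
  · have hlft : LocallyOfFiniteType (Spec.map (CommRingCat.ofHom (algebraMap k B))) := by
      rw [HasRingHomProperty.Spec_iff (P := @LocallyOfFiniteType)]
      exact (RingHom.finiteType_algebraMap).mpr hft
    have hclosed : IsIntegrallyClosed B := integralClosure.isIntegrallyClosedOfFiniteExtension K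
    refine Groth.Agent.Pi1.H386.NormalCurve.smooth_of_normal k _
      (Groth.Agent.Lefpen.H416.NormalBase.isNormalScheme_spec B) ?_
    refine le_of_eq (Eq.trans ?_ hB)
    exact PrimeSpectrum.topologicalKrullDim_eq_ringKrullDim (R := B)

end K682.CurveThrough
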