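import Groth.Agent.Smoothlim.SmoothLocusBC
import Groth.Agent.VarietyA.SmoothLocusSch
import Mathlib.AlgebraicGeometry.PullbackCarrier
import Mathlib.AlgebraicGeometry.Morphisms.Proper
import Mathlib.AlgebraicGeometry.Morphisms.Smooth
import Mathlib.AlgebraicGeometry.Morphisms.Flat

/-!
# Smooth fibres of proper flat morphisms

* `exists_open`: `f : X ⟶ S` proper, flat, locally of finite presentation whose base change to a field-valued point `g` is
  smooth; there is an open neighbourhood of the image of `g` over which every point is in the smooth locus.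
* `smooth_of_forall_mem`: a base change all of whose points map into the smooth locus is smooth.
-/

set_option autoImplicit false

universe u

open CategoryTheory Limits AlgebraicGeometry

namespace K682.SmoothNear

theorem exists_preimage {P X Y S : Scheme.{u}} {a : P ⟶ X} {b : P ⟶ Y} {f : X ⟶ S} {g : Y ⟶ S}
    (h : IsPullback a b f g) (x : X) (y : Y) (hxy : f x = g y) : ∃ z : P, a z = x ∧ b z = y := by
  obtain ⟨z, hz1, hz2⟩ := Scheme.Pullback.exists_preimage_pullback x y hxy
  refine ⟨h.isoPullback.inv z, ?_, ?_⟩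
  · rw [← Scheme.Hom.comp_apply, h.isoPullback_inv_fst, hz1]
  · rw [← Scheme.Hom.comp_apply, h.isoPullback_inv_snd, hz2]

theorem smooth_of_forall_mem {P X Y S : Scheme.{u}} {a : P ⟶ X} {b : P ⟶ Y} {f : X ⟶ S} {g : Y ⟶ S}
    (h : IsPullback a b f g) [LocallyOfFinitePresentation f] (hmem : ∀ z : P, a z ∈ f.smoothLocus) : Smooth b := by
  have hb : LocallyOfFinitePresentation b := MorphismProperty.of_isPullback h inferInstance
  rw [← Scheme.Hom.smoothLocus_eq_top_iff, eq_top_iff]
  intro z _
  exact Groth.Agent.VarietyA.SmoothLocusSch.mem_smoothLocus_of_isPullback h z (hmem z)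

theorem exists_open {P X Y S : Scheme.{u}} {a : P ⟶ X} {b : P ⟶ Y} {f : X ⟶ S} {g : Y ⟶ S}
    (h : IsPullback a b f g) [LocallyOfFinitePresentation f] [Flat f] [IsProper f] (hb : Smooth b) (y : Y) :
    ∃ U : S.Opens, g y ∈ U ∧ ∀ x : X, f x ∈ U → x ∈ f.smoothLocus := by
  have hcl : IsClosed (f '' ((f.smoothLocus : Set X)ᶜ)) :=
    f.isClosedMap _ f.smoothLocus.2.isClosed_compl
  refine ⟨⟨(f '' ((f.smoothLocus : Set X)ᶜ))ᶜ, hcl.isOpen_compl⟩, ?_, fun x hx => ?_⟩
  · rintro ⟨x, hx, hxy⟩
    obtain ⟨z, hz, -⟩ := exists_preimage h x y hxy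
    apply hx
    have h1 : z ∈ b.smoothLocus := by rw [Scheme.Hom.smoothLocus_eq_top]; trivial
    have h2 : (f.stalkMap (a z)).hom.Flat := Flat.stalkMap f (a z)
    rw [← hz]
    exact (Groth.Agent.Smoothlim.SmoothLocusBC.mem_smoothLocus_iff_of_isPullback h z (Or.inl h2)).mp h1
  · by_contra hx'
    exact hx ⟨x, hx', rfl⟩

end K682.SmoothNear
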