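import Groth.Agent.Deform.K682.PowLift
import Groth.Prelude.Def_ArtFun5
import Groth.Agent.CalgB.MinGen

/-!
# The `T¹`-lifting criterion in characteristic zero
-/

set_option autoImplicit false
universe u

namespace K682.T1Lift

open MvPowerSeries IsLocalRing K682.PowLift

/-- Lifting along `A ⊕ M' → A ⊕ M` for a power series ring. -/
theorem forward {k : Type u} [Field k] (m : ℕ) (A : Type u) [CommRing A] [Algebra k A] [IsLocalRing A]
    [IsArtinianRing A] (res : A →ₐ[k] k)
    (M M' : Type u) [AddCommGroup M] [Module A M] [Module Aᵐᵒᵖ M]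
    [IsCentralScalar A M] [Module k M] [IsScalarTower k A M] [IsScalarTower k Aᵐᵒᵖ M]
    [AddCommGroup M'] [Module A M'] [Module Aᵐᵒᵖ M'] [IsCentralScalar A M'] [Module k M']
    [IsScalarTower k A M'] [IsScalarTower k Aᵐᵒᵖ M'] (f : M' →ₗ[A] M)
    (hf : Function.Surjective f) (φ : MvPowerSeries (Fin m) k →ₐ[k] TrivSqZeroExt A M) :
    ∃ ψ : MvPowerSeries (Fin m) k →ₐ[k] TrivSqZeroExt A M',
      ∀ r, (ψ r).fst = (φ r).fst ∧ f (ψ r).snd = (φ r).snd := by
  obtain ⟨N, hN⟩ := IsArtinianRing.isNilpotent_jacobson_bot (R := A)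
  rw [IsLocalRing.jacobson_eq_maximalIdeal ⊥ bot_ne_top] at hN
  -- the variables go to the maximal ideal
  have hX : ∀ i, (φ (X i)).fst ∈ maximalIdeal A := by
    intro i
    let χ : MvPowerSeries (Fin m) k →ₐ[k] k := (res.comp ((TrivSqZeroExt.fstHom k A M))).comp φ
    have hχ : Function.Surjective χ := fun c => ⟨algebraMap k _ c, by simp⟩
    have hmax : (RingHom.ker (χ : MvPowerSeries (Fin m) k →+* k)).IsMaximal :=
      RingHom.ker_isMaximal_of_surjective _ hχ
    have h1 : (X i : MvPowerSeries (Fin m) k) ∈ maximalIdeal (MvPowerSeries (Fin m) k) := by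
      rw [Groth.Agent.CalgB.PowField.maximalIdeal_eq]
      exact Ideal.subset_span ⟨i, rfl⟩
    rw [← IsLocalRing.eq_maximalIdeal hmax] at h1
    have h2 : res ((φ (X i)).fst) = 0 := h1
    rw [mem_maximalIdeal, mem_nonunits_iff]
    intro hu
    have := hu.map res
    rw [h2] at this
    exact not_isUnit_zero this
  choose y hy using fun i => hf (φ (X i)).snd
  have hJ' : (idl M' (maximalIdeal A)) ^ (N * 2) = ⊥ := idl_pow _ N hN
  have hJ : (idl M (maximalIdeal A)) ^ (N * 2) = ⊥ := idl_pow _ N hN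
  have hc : IsAdicComplete (idl M' (maximalIdeal A)) (TrivSqZeroExt A M') :=
    isAdicComplete_of_pow_eq_bot _ _ hJ' _
  obtain ⟨ψ, hψ⟩ := Groth.Agent.CurvesC.NodalAlg.exists_evalHom (κ := k) (idl M' (maximalIdeal A))
    (fun i => (TrivSqZeroExt.inl (φ (X i)).fst + TrivSqZeroExt.inr (y i) : TrivSqZeroExt A M'))
    (fun i => by
      change (TrivSqZeroExt.inl (φ (X i)).fst + TrivSqZeroExt.inr (y i) : TrivSqZeroExt A M').fst ∈ maximalIdeal A
      simpa using hX i)
  -- compare
  let fψ : MvPowerSeries (Fin m) k →ₐ[k] TrivSqZeroExt A M :=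
    mkHom ((TrivSqZeroExt.fstHom k A M').comp ψ)
      { toFun := fun s => f (ψ s).snd
        map_add' := fun a b => by simp
        map_smul' := fun r a => by
          simp only [map_smul, TrivSqZeroExt.snd_smul, RingHom.id_apply]
          rw [← algebraMap_smul A r, map_smul, algebraMap_smul] }
      (fun a b => by
        simp only [LinearMap.coe_mk, AddHom.coe_mk, map_mul, TrivSqZeroExt.snd_mul, map_add, map_smul,
          op_smul_eq_smul]
        rfl)
  have heq : φ = fψ := by
    refine algHom_ext (idl M (maximalIdeal A)) (N * 2) hJ _ _ hX fun i => ?_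
    ext
    · change _ = (mkHom _ _ _ _).fst
      rw [mkHom_fst]
      simp [hψ]
    · change _ = (mkHom _ _ _ _).snd
      rw [mkHom_snd]
      simp [hψ, hy]
  refine ⟨ψ, fun r => ⟨?_, ?_⟩⟩
  · rw [heq]
    change _ = (mkHom _ _ _ _).fst
    rw [mkHom_fst]
    rfl
  · rw [heq]
    change _ = (mkHom _ _ _ _).snd
    rw [mkHom_snd]
    rfl

/-- A minimal presentation of a complete local Noetherian `k`-algebra with residue field `k`. -/
theorem exists_presentation (k : Type u) [Field k] (R : Type u) [CommRing R] [IsLocalRing R]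
    [IsNoetherianRing R] [Algebra k R] [IsAdicComplete (maximalIdeal R) R] (res : R →ₐ[k] k) :
    ∃ Φ : MvPowerSeries (Fin (Module.finrank (ResidueField R) (CotangentSpace R))) k →ₐ[k] R,
      Function.Surjective Φ ∧ (∀ i, Φ (X i) ∈ maximalIdeal R) ∧
      (∀ f, res (Φ f) = constantCoeff f) ∧
      ∀ f, Φ f = 0 → ∀ i, constantCoeff (pderiv k i f) = 0 := by
  obtain ⟨x, hx, hmin⟩ := Groth.Agent.CalgB.MinGen.exists_min_generators R
  have hxm : ∀ i, x i ∈ maximalIdeal R := fun i => hx.le (Ideal.subset_span ⟨i, rfl⟩)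
  have hmax : (RingHom.ker (res : R →+* k)).IsMaximal :=
    RingHom.ker_isMaximal_of_surjective _ (fun c => ⟨algebraMap k _ c, by simp⟩)
  have hker : ∀ r, res r = 0 ↔ r ∈ maximalIdeal R := by
    intro r
    rw [← IsLocalRing.eq_maximalIdeal hmax]
    rfl
  obtain ⟨Φ, hΦ⟩ := Groth.Agent.CurvesC.NodalAlg.exists_evalHom (κ := k) (maximalIdeal R) x hxm
  have hsurj : Function.Surjective Φ :=
    Groth.Agent.CurvesC.NodalAlg.evalHom_surjective (maximalIdeal R) x hx.symm
      (fun b => ⟨res b, by rw [← hker, map_sub]; simp⟩) Φ hΦ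
  have hc : ∀ f, res (Φ f) = constantCoeff f := by
    intro f
    have h1 : f - C (constantCoeff f) ∈ maximalIdeal (MvPowerSeries (Fin (Module.finrank (ResidueField R)
        (CotangentSpace R))) k) := by
      rw [Groth.Agent.CalgB.PowField.maximalIdeal_eq, Groth.Agent.Ega41.PowComplete.mem_span_X_iff]
      simp
    rw [Groth.Agent.CalgB.PowField.maximalIdeal_eq] at h1
    have h2 : res (Φ (f - C (constantCoeff f))) = 0 := by
      obtain ⟨c, hc⟩ := (Ideal.mem_span_range_iff_exists_fun).mp h1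
      rw [← hc, map_sum, map_sum]
      refine Finset.sum_eq_zero fun i _ => ?_
      rw [map_mul, map_mul, hΦ, (hker _).2 (hxm i), mul_zero]
    rw [map_sub, map_sub, sub_eq_zero] at h2
    rw [h2]
    have h3 : Φ (C (constantCoeff f)) = algebraMap k R (constantCoeff f) := Φ.commutes _
    rw [h3]
    simp
  refine ⟨Φ, hsurj, fun i => by rw [hΦ]; exact hxm i, hc, fun f hf i => ?_⟩
  have hf1 : f ∈ maximalIdeal (MvPowerSeries (Fin (Module.finrank (ResidueField R)
        (CotangentSpace R))) k) := by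
    rw [Groth.Agent.CalgB.PowField.maximalIdeal_eq, Groth.Agent.Ega41.PowComplete.mem_span_X_iff,
      ← hc, hf, map_zero]
  rw [Groth.Agent.CalgB.PowField.maximalIdeal_eq] at hf1
  obtain ⟨c, rfl⟩ := (Ideal.mem_span_range_iff_exists_fun).mp hf1
  have h4 : ∑ i, Φ (c i) * x i ∈ maximalIdeal R ^ 2 := by
    have : ∑ i, Φ (c i) * x i = Φ (∑ i, c i * X i) := by
      rw [map_sum]; simp [hΦ]
    rw [this, hf]
    exact Ideal.zero_mem _
  have h5 := hmin (fun i => Φ (c i)) h4
  have h6 : ∀ i, constantCoeff (c i) = 0 := fun i => by rw [← hc, hker]; exact h5 i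
  rw [map_sum, map_sum]
  refine Finset.sum_eq_zero fun j _ => ?_
  rw [Derivation.leibniz, map_add]
  simp [h6, constantCoeff_X]

/-- An algebra map to a quotient of power series factors. -/
theorem exists_factor {k S R B : Type*} [Field k] [CommRing S] [CommRing R] [CommRing B] [Algebra k S]
    [Algebra k R] [Algebra k B] (Φ : S →ₐ[k] R) (hΦ : Function.Surjective Φ) (Δ : S →ₐ[k] B)
    (h : ∀ s, Φ s = 0 → Δ s = 0) : ∃ φ : R →ₐ[k] B, ∀ s, φ (Φ s) = Δ s := by
  refine ⟨(Ideal.Quotient.liftₐ (RingHom.ker Φ) Δ (fun a ha => h a ha)).comp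
    (Ideal.quotientKerAlgEquivOfSurjective hΦ).symm.toAlgHom, fun s => ?_⟩
  have h1 : (Ideal.quotientKerAlgEquivOfSurjective hΦ).symm (Φ s) = Ideal.Quotient.mk _ s := by
    rw [AlgEquiv.symm_apply_eq]
    rfl
  change Ideal.Quotient.liftₐ (RingHom.ker Φ) Δ (fun a ha => h a ha) ((Ideal.quotientKerAlgEquivOfSurjective hΦ).symm (Φ s)) = _
  rw [h1]
  rfl

/-- The kernel of a minimal presentation is stable under partial derivatives if the `T¹`-lifting
property holds. -/
theorem pderiv_mem {k : Type u} [Field k] (R : ArtFun.CRing k k)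
    (h : ∀ (A : ArtFun.Art k k) (M M' : Type u) [AddCommGroup M] [Module (↥A) M] [Module (↥A)ᵐᵒᵖ M]
        [IsCentralScalar (↥A) M] [Module k M] [IsScalarTower k (↥A) M] [IsScalarTower k (↥A)ᵐᵒᵖ M]
        [AddCommGroup M'] [Module (↥A) M'] [Module (↥A)ᵐᵒᵖ M'] [IsCentralScalar (↥A) M'] [Module k M']
        [IsScalarTower k (↥A) M'] [IsScalarTower k (↥A)ᵐᵒᵖ M'] (f : M' →ₗ[↥A] M),
        Function.Surjective f →
          ∀ φ : R.carrier →ₐ[k] TrivSqZeroExt (↥A) M,
            ∃ ψ : R.carrier →ₐ[k] TrivSqZeroExt (↥A) M',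
              ∀ r : R.carrier, (ψ r).fst = (φ r).fst ∧ f (ψ r).snd = (φ r).snd)
    {n : ℕ} (Φ : MvPowerSeries (Fin n) k →ₐ[k] R.carrier) (hΦ : Function.Surjective Φ)
    (hX : ∀ i, Φ (X i) ∈ maximalIdeal R.carrier) (hres : ∀ f, R.res (Φ f) = constantCoeff f)
    (hmin : ∀ f, Φ f = 0 → ∀ i, constantCoeff (pderiv k i f) = 0)
    (g : MvPowerSeries (Fin n) k) (hg : Φ g = 0) (i : Fin n) : Φ (pderiv k i g) = 0 := by
  have hcompl := R.isAdicComplete
  refine IsHausdorff.haus (I := maximalIdeal R.carrier) inferInstance _ fun N => ?_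
  rw [SModEq.zero, smul_eq_mul, Ideal.mul_top]
  refine Ideal.pow_le_pow_right (Nat.le_succ N) ?_
  -- work over `A = R / m^(N+1)`
  let A : ArtFun.Art k k := R.trunc N
  let q : R.carrier →ₐ[k] A := Ideal.Quotient.mkₐ k (R.mpow N)
  have hq0 : ∀ r, q r = 0 → r ∈ maximalIdeal R.carrier ^ (N + 1) := fun r hr =>
    Ideal.Quotient.eq_zero_iff_mem.1 hr
  have hqm : ∀ r ∈ maximalIdeal R.carrier, q r ∈ maximalIdeal A := by
    intro r hr
    rw [ArtFun.Art.mem_maximalIdeal_iff]
    exact (R.mem_maximalIdeal_iff r).1 hr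
  let w : MvPowerSeries (Fin n) k → (Fin n → A) := fun g i => q (Φ (pderiv k i g))
  let W : Submodule A (Fin n → A) := Submodule.span A {x | ∃ g, Φ g = 0 ∧ w g = x}
  have hwW : ∀ g, Φ g = 0 → w g ∈ W := fun g hg => Submodule.subset_span ⟨g, hg, rfl⟩
  have hwadd : ∀ a b, w (a + b) = w a + w b := fun a b => by ext i; simp [w]
  have hwsmul : ∀ (r : k) a, w (r • a) = r • w a := fun r a => by ext i; simp [w]
  have hwmul : ∀ a b, w (a * b) = q (Φ a) • w b + q (Φ b) • w a := fun a b => by
    ext i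
    simp only [w, Derivation.leibniz, map_add, smul_eq_mul, map_mul, Pi.add_apply, Pi.smul_apply]
  let δ : MvPowerSeries (Fin n) k →ₗ[k] ((Fin n → A) ⧸ W) :=
    { toFun := fun a => W.mkQ (w a)
      map_add' := fun a b => by rw [hwadd, map_add]
      map_smul' := fun r a => by rw [hwsmul]; rfl }
  let Δ : MvPowerSeries (Fin n) k →ₐ[k] TrivSqZeroExt A ((Fin n → A) ⧸ W) :=
    mkHom (q.comp Φ) δ (fun a b => by
      change W.mkQ (w (a * b)) = q (Φ a) • W.mkQ (w b) + q (Φ b) • W.mkQ (w a)
      rw [hwmul, map_add, map_smul, map_smul])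
  have hΔ1 : ∀ a, (Δ a).fst = q (Φ a) := fun a => mkHom_fst _ _ _ a
  have hΔ2 : ∀ a, (Δ a).snd = W.mkQ (w a) := fun a => mkHom_snd _ _ _ a
  obtain ⟨φ, hφ⟩ := exists_factor Φ hΦ Δ (fun s hs => by
    ext
    · rw [hΔ1, hs]; simp
    · rw [hΔ2, TrivSqZeroExt.snd_zero]
      exact (Submodule.Quotient.mk_eq_zero W).2 (hwW s hs))
  obtain ⟨ψ, hψ⟩ := h A ((Fin n → A) ⧸ W) (Fin n → A) W.mkQ W.mkQ_surjective φ
  let e : Fin n → (Fin n → A) := fun i => (ψ (Φ (X i))).snd
  let δ₂ : MvPowerSeries (Fin n) k →ₗ[k] (Fin n → A) :=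
    { toFun := fun a => ∑ i, w a i • e i
      map_add' := fun a b => by
        rw [hwadd, ← Finset.sum_add_distrib]
        exact Finset.sum_congr rfl fun i _ => by rw [Pi.add_apply, add_smul]
      map_smul' := fun r a => by
        rw [hwsmul, RingHom.id_apply, Finset.smul_sum]
        exact Finset.sum_congr rfl fun i _ => by rw [Pi.smul_apply, smul_assoc] }
  let Ψ₂ : MvPowerSeries (Fin n) k →ₐ[k] TrivSqZeroExt A (Fin n → A) :=
    mkHom (q.comp Φ) δ₂ (fun a b => by
      change ∑ i, w (a * b) i • e i = q (Φ a) • ∑ i, w b i • e i + q (Φ b) • ∑ i, w a i • e i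
      rw [hwmul, Finset.smul_sum, Finset.smul_sum, ← Finset.sum_add_distrib]
      refine Finset.sum_congr rfl fun i _ => ?_
      rw [Pi.add_apply, Pi.smul_apply, Pi.smul_apply, add_smul, smul_assoc, smul_assoc])
  obtain ⟨N', hN'⟩ := IsArtinianRing.isNilpotent_jacobson_bot (R := A)
  rw [IsLocalRing.jacobson_eq_maximalIdeal ⊥ bot_ne_top] at hN'
  have hwX : ∀ i, w (X i) = Pi.single i 1 := by
    intro i
    ext j
    simp only [w]
    by_cases hij : j = i
    · subst hij; simp
    · rw [pderiv_X_of_ne (by tauto)]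
      simp [hij]
  have hΨ : ψ.comp Φ = Ψ₂ := by
    refine algHom_ext (idl (Fin n → A) (maximalIdeal A)) (N' * 2) (idl_pow _ N' hN') _ _ ?_ ?_
    · intro i
      change (ψ (Φ (X i))).fst ∈ maximalIdeal A
      rw [(hψ _).1, hφ, hΔ1]
      exact hqm _ (hX i)
    · intro i
      ext j
      · change (ψ (Φ (X i))).fst = _
        rw [(hψ _).1, hφ, hΔ1, mkHom_fst]
        rfl
      · change (ψ (Φ (X i))).snd j = _
        rw [mkHom_snd]
        change e i j = (∑ l, w (X i) l • e l) j
        rw [hwX, Finset.sum_eq_single i]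
        · simp
        · intro l _ hl
          rw [Pi.single_eq_of_ne hl, zero_smul]
        · intro h
          exact absurd (Finset.mem_univ _) h
  -- the vectors `e i` are the standard basis modulo `W`
  have he : ∀ i, e i - Pi.single i 1 ∈ W := by
    intro i
    have h1 : W.mkQ (e i) = W.mkQ (Pi.single i 1) := by
      rw [(hψ _).2, hφ, hΔ2, hwX]
    rw [← sub_eq_zero, ← map_sub] at h1
    exact (Submodule.Quotient.mk_eq_zero W).1 h1
  have hrel : ∀ g, Φ g = 0 → ∑ i, w g i • e i = 0 := by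
    intro g hg
    have h1 : (ψ.comp Φ) g = 0 := by rw [AlgHom.comp_apply, hg, map_zero]
    rw [hΨ] at h1
    have h2 := congrArg TrivSqZeroExt.snd h1
    rw [mkHom_snd] at h2
    exact h2
  have hW : W ≤ maximalIdeal A • W := by
    refine Submodule.span_le.2 ?_
    rintro _ ⟨g, hg, rfl⟩
    have h1 : w g = - ∑ i, w g i • (e i - Pi.single i 1) := by
      simp only [smul_sub, Finset.sum_sub_distrib, hrel g hg]
      ext j
      simp [Finset.sum_apply, Pi.single_apply]
    rw [h1]
    refine Submodule.neg_mem _ (Submodule.sum_mem _ fun i _ => Submodule.smul_mem_smul ?_ (he i))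
    refine hqm _ ?_
    rw [R.mem_maximalIdeal_iff, hres]
    exact hmin g hg i
  have hW0 : W = ⊥ := by
    refine Submodule.eq_bot_of_le_smul_of_le_jacobson_bot (maximalIdeal A) W (IsNoetherian.noetherian W) hW ?_
    exact (IsLocalRing.jacobson_eq_maximalIdeal ⊥ bot_ne_top).ge
  have h5 : w g = 0 := by
    have := hwW g hg
    rw [hW0, Submodule.mem_bot] at this
    exact this
  exact hq0 _ (congrFun h5 i)

/-- In characteristic zero an ideal of a power series ring contained in the maximal ideal and stable under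
partial derivatives is zero. -/
theorem eq_zero_of_pderiv {k : Type u} [Field k] [CharZero k] {n : ℕ} (P : MvPowerSeries (Fin n) k → Prop)
    (h0 : ∀ f, P f → constantCoeff f = 0) (h1 : ∀ f, P f → ∀ i, P (pderiv k i f))
    (f : MvPowerSeries (Fin n) k) (hf : P f) : f = 0 := by
  have key : ∀ (d : ℕ) (e : Fin n →₀ ℕ), e.degree = d → ∀ f, P f → coeff e f = 0 := by
    intro d
    induction d with
    | zero =>
      intro e he f hf
      have : e = 0 := by
        rw [Finsupp.degree_eq_zero_iff] at he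
        exact he
      subst this
      rw [coeff_zero_eq_constantCoeff_apply]
      exact h0 f hf
    | succ d ih =>
      intro e he f hf
      obtain ⟨i, hi⟩ : ∃ i, e i ≠ 0 := by
        by_contra hcon
        push Not at hcon
        have : e = 0 := Finsupp.ext hcon
        rw [this, map_zero] at he
        omega
      have he' : e = (e - Finsupp.single i 1) + Finsupp.single i 1 := by
        ext j
        by_cases hij : i = j
        · subst hij
          simp
          omega
        · simp [hij]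
      have hd : (e - Finsupp.single i 1).degree = d := by
        have := congrArg Finsupp.degree he'
        rw [map_add, he, Finsupp.degree_single] at this
        omega
      have h2 := ih _ hd _ (h1 f hf i)
      rw [coeff_pderiv, ← he'] at h2
      rcases mul_eq_zero.1 h2 with h3 | h3
      · exact h3
      · exfalso
        have : (((((e - Finsupp.single i 1 : Fin n →₀ ℕ) i) + 1 : ℕ) : k)) = 0 := by
          rw [Nat.cast_succ]; exact h3
        exact Nat.succ_ne_zero _ (Nat.cast_eq_zero.1 this)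
  ext e
  rw [key _ e rfl f hf, map_zero]

end K682.T1Lift
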