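import Groth.Agent.Lefpen.H705.Completion
import Mathlib.RingTheory.RegularLocalRing.Defs
import Mathlib.RingTheory.RingHom.Flat
import Mathlib.RingTheory.AdicCompletion.AsTensorProduct
import Mathlib.RingTheory.AdicCompletion.Noetherian

/-!
# The formal germ of a smooth curve at a rational point

* `exists_powerSeries_map`: `A` a regular local `k`-algebra of dimension one with a local retraction `ψ : A → k`;
  there is an injective flat `k`-homomorphism `A → k[[t]]` whose composite with the constant term is `ψ`.
-/

set_option autoImplicit false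

universe u

namespace K682.CurveGerm

open IsLocalRing

theorem exists_powerSeries_map {k A : Type u} [Field k] [CommRing A] [IsRegularLocalRing A]
    (φ : k →+* A) (ψ : A →+* k) [IsLocalHom ψ] (h : ψ.comp φ = RingHom.id k) (hn : ringKrullDim A = 1) :
    ∃ α : A →+* PowerSeries k, α.comp φ = PowerSeries.C ∧ (PowerSeries.constantCoeff).comp α = ψ ∧
      α.Flat ∧ Function.Injective α := by
  have hker : ∀ z : A, ψ z = 0 ↔ z ∈ maximalIdeal A := by
    intro z
    rw [mem_maximalIdeal, mem_nonunits_iff, ← isUnit_map_iff ψ z, isUnit_iff_ne_zero, not_not]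
  have hψφ : ∀ c, ψ (φ c) = c := fun c => DFunLike.congr_fun h c
  have hres : ∀ z : A, ∃ c : k, z - φ c ∈ maximalIdeal A := by
    intro z
    refine ⟨ψ z, ?_⟩
    rw [← hker, map_sub, hψφ, sub_self]
  -- a generator of the maximal ideal
  have hfr : (maximalIdeal A).spanFinrank = 1 := by
    have h1 := IsRegularLocalRing.spanFinrank_maximalIdeal (R := A)
    rw [hn] at h1
    exact_mod_cast h1
  obtain ⟨t, ht⟩ : ∃ t : Fin 1 → A, Ideal.span (Set.range t) = maximalIdeal A := by
    obtain ⟨s, hs, hs'⟩ := Submodule.FG.exists_span_set_encard_eq_spanFinrank (p := maximalIdeal A)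
      (maximalIdeal A).fg_of_isNoetherianRing
    rw [hfr] at hs
    obtain ⟨x, rfl⟩ := Set.encard_eq_one.mp (by exact_mod_cast hs)
    refine ⟨fun _ => x, ?_⟩
    rw [Set.range_const]
    exact hs'
  obtain ⟨e, he1, -, -⟩ := Groth.Agent.Lefpen.H705.Completion.exists_completion_equiv φ hres 1 t ht (by exact_mod_cast hn)
  let r : MvPowerSeries (Fin 1) k ≃+* PowerSeries k :=
    (MvPowerSeries.renameEquiv k (Equiv.ofUnique (Fin 1) Unit)).toRingEquiv
  have hr : ∀ c, r (MvPowerSeries.C c) = PowerSeries.C c := fun c => MvPowerSeries.rename_C _ c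
  let ε : AdicCompletion (maximalIdeal A) A ≃+* PowerSeries k := e.trans r
  let α : A →+* PowerSeries k := (ε : _ →+* _).comp (algebraMap A (AdicCompletion (maximalIdeal A) A))
  have hαφ : ∀ c, α (φ c) = PowerSeries.C c := by
    intro c
    change r (e (algebraMap A _ (φ c))) = _
    rw [he1, hr]
  have hflat0 : (algebraMap A (AdicCompletion (maximalIdeal A) A)).Flat := by
    rw [RingHom.flat_algebraMap_iff]
    exact AdicCompletion.flat_of_isNoetherian (maximalIdeal A)
  refine ⟨α, RingHom.ext hαφ, ?_, ?_, ?_⟩
  · ext z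
    rw [RingHom.comp_apply]
    obtain ⟨c, hc⟩ := hres z
    have hc' : z = φ c + (z - φ c) := by ring
    have hloc : IsLocalHom α := by
      have h0 : IsLocalHom (algebraMap A (AdicCompletion (maximalIdeal A) A)) := inferInstance
      have h1 : IsLocalHom (ε : AdicCompletion (maximalIdeal A) A →+* PowerSeries k) := inferInstance
      exact RingHom.isLocalHom_comp _ _
    have hm : α (z - φ c) ∈ maximalIdeal (PowerSeries k) := by
      rw [mem_maximalIdeal, mem_nonunits_iff, isUnit_map_iff α]
      exact hc
    have hm0 : PowerSeries.constantCoeff (α (z - φ c)) = 0 := by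
      rw [mem_maximalIdeal, mem_nonunits_iff, PowerSeries.isUnit_iff_constantCoeff, isUnit_iff_ne_zero,
        not_not] at hm
      exact hm
    rw [hc', map_add, map_add, map_add, hm0, hαφ, hψφ, (hker _).mpr hc, PowerSeries.constantCoeff_C]
  · exact RingHom.Flat.comp hflat0 (RingHom.Flat.of_bijective ε.bijective)
  · refine ε.injective.comp ?_
    intro x y hxy
    exact AdicCompletion.of_injective (maximalIdeal A) A hxy

end K682.CurveGerm
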