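import Groth.Agent.Fga.DualPushout
import Groth.Agent.Sga3C.Affinization
import Mathlib.AlgebraicGeometry.Morphisms.Affine
import Mathlib.AlgebraicGeometry.Morphisms.ClosedImmersion

/-!
# Affine cartesian squares over the dual numbers
-/

set_option autoImplicit false
universe u

open CategoryTheory CategoryTheory.Limits AlgebraicGeometry DualNumber Groth.Agent.Fga.DualPushout

namespace K682.DualAff

/-- If every element of `C` is uniquely `b + c ε`, then `C = B ⊗_k k[ε]`. -/
theorem isPushout_of_bijective (k : Type u) [CommRing k] {B C : CommRingCat.{u}}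
    (f : CommRingCat.of k ⟶ B) (inl : B ⟶ C) (inr : CommRingCat.of (DualNumber k) ⟶ C)
    (w : f ≫ inl = CommRingCat.ofHom (algebraMap k (DualNumber k)) ≫ inr)
    (h : Function.Bijective (fun x : B × B => inl.hom x.1 + inl.hom x.2 * inr.hom DualNumber.eps)) :
    IsPushout f (CommRingCat.ofHom (algebraMap k (DualNumber k))) inl inr := by
  have he : inr.hom DualNumber.eps * inr.hom DualNumber.eps = 0 := by
    rw [← map_mul, DualNumber.eps_mul_eps, map_zero]
  have hbij : Function.Bijective (dualLift inl.hom (inr.hom DualNumber.eps) he) := by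
    constructor
    · intro x y hxy
      have := h.1 (a₁ := (x.fst, x.snd)) (a₂ := (y.fst, y.snd)) hxy
      exact TrivSqZeroExt.ext (congrArg Prod.fst this) (congrArg Prod.snd this)
    · intro c
      obtain ⟨x, hx⟩ := h.2 c
      refine ⟨TrivSqZeroExt.inl x.1 + TrivSqZeroExt.inr x.2, ?_⟩
      rw [← hx, dualLift_apply]
      simp
  let E : DualNumber B ≃+* C := RingEquiv.ofBijective _ hbij
  have hE : ∀ x, E x = inl.hom x.fst + inl.hom x.snd * inr.hom DualNumber.eps := fun _ => rfl
  have hE1 : ∀ b : B, E.symm (inl.hom b) = TrivSqZeroExt.inl b := fun b => by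
    rw [RingEquiv.symm_apply_eq, hE]; simp
  have hw : ∀ x : k, inl.hom (f.hom x) = inr.hom (algebraMap k (DualNumber k) x) := fun x =>
    congr(($w).hom x)
  have hE2 : ∀ z : DualNumber k, E.symm (inr.hom z) =
      TrivSqZeroExt.inl (f.hom z.fst) + TrivSqZeroExt.inr (f.hom z.snd) := fun z => by
    rw [RingEquiv.symm_apply_eq, hE, eps_ringHom inr.hom z, ← hw, ← hw]; simp
  have hse : ∀ s : PushoutCocone f (CommRingCat.ofHom (algebraMap k (DualNumber k))),
      s.inr.hom DualNumber.eps * s.inr.hom DualNumber.eps = 0 := fun s => by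
    rw [← map_mul, DualNumber.eps_mul_eps, map_zero]
  refine ⟨⟨w⟩, ⟨PushoutCocone.IsColimit.mk _
    (fun s => CommRingCat.ofHom ((dualLift s.inl.hom (s.inr.hom DualNumber.eps) (hse s)).comp
      E.symm.toRingHom)) ?_ ?_ ?_⟩⟩
  · intro s
    apply CommRingCat.hom_ext
    apply RingHom.ext
    intro b
    change dualLift s.inl.hom (s.inr.hom DualNumber.eps) (hse s) (E.symm (inl.hom b)) = s.inl.hom b
    rw [hE1, dualLift_apply]
    simp
  · intro s
    apply CommRingCat.hom_ext
    apply RingHom.ext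
    intro z
    change dualLift s.inl.hom (s.inr.hom DualNumber.eps) (hse s) (E.symm (inr.hom z)) = s.inr.hom z
    have hs : ∀ x : k, s.inl.hom (f.hom x) = s.inr.hom (algebraMap k (DualNumber k) x) := fun x =>
      congr(($s.condition).hom x)
    rw [hE2, dualLift_apply, eps_ringHom s.inr.hom z, ← hs, ← hs]
    simp
  · intro s m h1 h2
    apply CommRingCat.hom_ext
    apply RingHom.ext
    intro c
    obtain ⟨x, rfl⟩ := E.surjective c
    change m.hom (E x) = dualLift s.inl.hom (s.inr.hom DualNumber.eps) (hse s) (E.symm (E x))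
    rw [RingEquiv.symm_apply_apply, dualLift_apply, hE, map_add, map_mul]
    have h1' : ∀ b, m.hom (inl.hom b) = s.inl.hom b := fun b => congr(($h1).hom b)
    have h2' : ∀ b, m.hom (inr.hom b) = s.inr.hom b := fun b => congr(($h2).hom b)
    rw [h1', h1', h2']

/-- A square of affine schemes is cartesian if it is cocartesian on global sections. -/
theorem isPullback_of_isPushout_appTop {P X Y Z : Scheme.{u}} [IsAffine P] [IsAffine X] [IsAffine Y]
    [IsAffine Z] (fst : P ⟶ X) (snd : P ⟶ Y) (f : X ⟶ Z) (g : Y ⟶ Z)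
    (h : IsPushout f.appTop g.appTop fst.appTop snd.appTop) : IsPullback fst snd f g := by
  have w : fst ≫ f = snd ≫ g := by
    apply ext_of_isAffine
    rw [Scheme.Hom.comp_appTop, Scheme.Hom.comp_appTop]
    exact h.w
  refine ⟨⟨w⟩, ⟨PullbackCone.IsLimit.mk _ (fun s => (Groth.Agent.Sga3C.Affinization.exists_appTop_eq
    (h.desc s.fst.appTop s.snd.appTop (by
      rw [← Scheme.Hom.comp_appTop, ← Scheme.Hom.comp_appTop, s.condition]))).choose) ?_ ?_ ?_⟩⟩
  · intro s
    apply ext_of_isAffine
    rw [Scheme.Hom.comp_appTop, (Groth.Agent.Sga3C.Affinization.exists_appTop_eq _).choose_spec,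
      h.inl_desc]
  · intro s
    apply ext_of_isAffine
    rw [Scheme.Hom.comp_appTop, (Groth.Agent.Sga3C.Affinization.exists_appTop_eq _).choose_spec,
      h.inr_desc]
  · intro s m h1 h2
    apply ext_of_isAffine
    rw [(Groth.Agent.Sga3C.Affinization.exists_appTop_eq _).choose_spec]
    apply h.hom_ext
    · rw [h.inl_desc, ← h1, Scheme.Hom.comp_appTop]
    · rw [h.inr_desc, ← h2, Scheme.Hom.comp_appTop]

/-- The kernel of `C → B` when `B = C ⊗_{k[ε]} k`. -/
theorem ker_of_isPushout (k : Type u) [CommRing k] {B C : CommRingCat.{u}}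
    (f : CommRingCat.of k ⟶ B) (π : C ⟶ B) (inr : CommRingCat.of (DualNumber k) ⟶ C)
    (sq : IsPushout inr (CommRingCat.ofHom (TrivSqZeroExt.fstHom k k k).toRingHom) π f) (c : C)
    (hc : π.hom c = 0) : ∃ c', c = inr.hom DualNumber.eps * c' := by
  let I : Ideal C := Ideal.span {inr.hom DualNumber.eps}
  let mkI : C ⟶ CommRingCat.of (C ⧸ I) := CommRingCat.ofHom (Ideal.Quotient.mk I)
  let fI : CommRingCat.of k ⟶ CommRingCat.of (C ⧸ I) :=
    CommRingCat.ofHom (algebraMap k (DualNumber k)) ≫ inr ≫ mkI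
  have hw : inr ≫ mkI = CommRingCat.ofHom (TrivSqZeroExt.fstHom k k k).toRingHom ≫ fI := by
    apply CommRingCat.hom_ext
    apply RingHom.ext
    intro z
    change Ideal.Quotient.mk I (inr.hom z) = Ideal.Quotient.mk I (inr.hom (algebraMap k _ z.fst))
    rw [eps_ringHom inr.hom z, map_add, map_mul (Ideal.Quotient.mk I),
      Ideal.Quotient.eq_zero_iff_mem.2 (Ideal.subset_span rfl : inr.hom DualNumber.eps ∈ I),
      mul_zero, add_zero]
  have h1 : (sq.desc mkI fI hw).hom (π.hom c) = Ideal.Quotient.mk I c :=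
    congr($(sq.inl_desc mkI fI hw).hom c)
  rw [hc, map_zero, eq_comm, Ideal.Quotient.eq_zero_iff_mem, Ideal.mem_span_singleton] at h1
  exact h1

end K682.DualAff
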