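import Groth.Agent.Deform.K682.DualThick

/-!
# Automorphisms of the trivial dual number thickening and derivations

* `SecDer X`: derivations of the structure sheaf, sectionwise.
* `secEnd T D`: `c ↦ c + q^*(D (i^* c)) e`.
* `ofLift T f`: the derivation attached to `f : Y ⟶ X` with `i ≫ f = 𝟙`.
-/

set_option autoImplicit false

universe u

open CategoryTheory Limits AlgebraicGeometry TopologicalSpace Opposite

namespace K682.DualAut

open Groth.Agent.Fdesc.LocGen K682.DualThick

/-- Derivations of the structure sheaf into itself, sectionwise. -/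
@[ext]
structure SecDer (X : Scheme.{u}) where
  δ : ∀ U : X.Opens, Γ(X, U) →+ Γ(X, U)
  leib : ∀ (U : X.Opens) (a b : Γ(X, U)), δ U (a * b) = a * δ U b + b * δ U a
  nat : ∀ {U V : X.Opens} (h : V ≤ U) (a : Γ(X, U)), ores h (δ U a) = δ V (ores h a)

variable {X Y : Scheme.{u}} (T : Dat X Y)

theorem SecDer.map_one (D : SecDer X) (U : X.Opens) : D.δ U 1 = 0 := by
  have h := D.leib U 1 1
  rw [mul_one, one_mul] at h
  exact left_eq_add.mp h

/-- The endomorphism `c ↦ c + q^*(D (i^* c)) e`. -/
noncomputable def secEnd (D : SecDer X) : IdAut.SecEnd Y where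
  σ V :=
    { toFun := fun c => c + T.qL V (D.δ _ (T.iA V c)) * T.eV V
      map_one' := by rw [_root_.map_one, D.map_one, map_zero, zero_mul, add_zero]
      map_zero' := by rw [map_zero, map_zero, map_zero, zero_mul, add_zero]
      map_add' := fun c c' => by rw [map_add, map_add, map_add]; ring
      map_mul' := fun c c' => by
        rw [map_mul, D.leib, map_add, map_mul, map_mul]
        have h1 := T.mul_eV V c
        have h2 := T.mul_eV V c'
        have h3 := T.eV_sq V
        linear_combination (-(T.qL V (D.δ _ (T.iA V c')))) * h1 - (T.qL V (D.δ _ (T.iA V c))) * h2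
          - (T.qL V (D.δ _ (T.iA V c')) * T.qL V (D.δ _ (T.iA V c))) * h3 }
  nat V W h c := by
    change ores h.le (c + T.qL W (D.δ _ (T.iA W c)) * T.eV W) =
      ores h.le c + T.qL V (D.δ _ (T.iA V (ores h.le c))) * T.eV V
    rw [map_add, map_mul, T.ores_qL, T.ores_eV, D.nat, T.ores_iA]
  nil V c := by
    refine ⟨2, ?_⟩
    change (c + T.qL V (D.δ _ (T.iA V c)) * T.eV V - c) ^ 2 = 0
    have h3 := T.eV_sq V
    linear_combination (T.qL V (D.δ _ (T.iA V c))) ^ 2 * h3

theorem secEnd_apply (D : SecDer X) (V : Y.Opens) (c : Γ(Y, V)) :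
    (secEnd T D).σ V c = c + T.qL V (D.δ _ (T.iA V c)) * T.eV V := rfl

/-- The automorphism of the thickening attached to a derivation. -/
noncomputable def autHom (D : SecDer X) : Y ⟶ Y := (secEnd T D).hom

theorem autHom_app (D : SecDer X) (V : Y.Opens) (c : Γ(Y, V)) :
    (autHom T D).app V c = c + T.qL V (D.δ _ (T.iA V c)) * T.eV V := rfl

/-- Extensionality for morphisms which are the identity on points. -/
theorem hom_ext_of_base {Y Z : Scheme.{u}} {f g : Y ⟶ Z} (hb : ∀ y, f y = g y)
    (h : ∀ (U : Z.Opens) (c : Γ(Z, U)) (e : f ⁻¹ᵁ U ≤ g ⁻¹ᵁ U), f.app U c = g.appLE U (f ⁻¹ᵁ U) e c) : f = g := by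
  have h_base : f.base = g.base := by
    ext y
    exact hb y
  refine Scheme.Hom.ext h_base fun U => ?_
  apply CommRingCat.hom_ext
  apply RingHom.ext
  intro c
  have e : f ⁻¹ᵁ U ≤ g ⁻¹ᵁ U := by rw [h_base]
  have e' : g ⁻¹ᵁ U ≤ f ⁻¹ᵁ U := by rw [h_base]
  have h1 := h U c e
  change ores e' (f.app U c) = g.app U c
  rw [h1]
  change ores e' (ores e (g.app U c)) = _
  rw [ores_ores]
  change (g.app U ≫ Y.presheaf.map (𝟙 _)) c = _
  rw [Y.presheaf.map_id, Category.comp_id]

theorem autHom_comp (D D' D'' : SecDer X) (h : ∀ U a, D''.δ U a = D.δ U a + D'.δ U a) :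
    autHom T D ≫ autHom T D' = autHom T D'' := by
  refine hom_ext_of_base (fun y => rfl) fun V c e => ?_
  have e1 : (autHom T D'').appLE V ((autHom T D ≫ autHom T D') ⁻¹ᵁ V) e c = (autHom T D'').app V c := by
    change ((autHom T D'').app V ≫ Y.presheaf.map (𝟙 _)) c = _
    rw [Y.presheaf.map_id, Category.comp_id]
  rw [e1]
  change (autHom T D).app V ((autHom T D').app V c) = _
  rw [autHom_app, autHom_app, autHom_app]
  have h1 : T.iA V (c + T.qL V (D'.δ _ (T.iA V c)) * T.eV V) = T.iA V c := by
    rw [map_add, map_mul, T.iA_eV, mul_zero, add_zero]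
  rw [h1, h, map_add, add_mul, add_assoc, add_comm (T.qL V (D'.δ _ (T.iA V c)) * T.eV V)]

/-- The zero derivation. -/
noncomputable def SecDer.zero (X : Scheme.{u}) : SecDer X where
  δ U := 0
  leib U a b := by simp
  nat h a := by simp

/-- The opposite of a derivation. -/
noncomputable def SecDer.neg (D : SecDer X) : SecDer X where
  δ U := -D.δ U
  leib U a b := by
    rw [AddMonoidHom.neg_apply, AddMonoidHom.neg_apply, AddMonoidHom.neg_apply, D.leib]
    ring
  nat h a := by
    rw [AddMonoidHom.neg_apply, AddMonoidHom.neg_apply, map_neg, D.nat]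

theorem autHom_zero : autHom T (SecDer.zero X) = 𝟙 Y := by
  refine hom_ext_of_base (fun y => rfl) fun V c e => ?_
  rw [autHom_app]
  change c + T.qL V 0 * T.eV V = _
  rw [map_zero, zero_mul, add_zero]
  change c = (Y.presheaf.map (𝟙 _)) c
  rw [Y.presheaf.map_id]
  rfl

/-- The automorphism attached to a derivation. -/
noncomputable def autIso (D : SecDer X) : Y ≅ Y where
  hom := autHom T D
  inv := autHom T D.neg
  hom_inv_id := by
    rw [autHom_comp T D D.neg (SecDer.zero X), autHom_zero]
    intro U a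
    change (0 : Γ(X, U)) = D.δ U a + -D.δ U a
    rw [add_neg_cancel]
  inv_hom_id := by
    rw [autHom_comp T D.neg D (SecDer.zero X), autHom_zero]
    intro U a
    change (0 : Γ(X, U)) = -D.δ U a + D.δ U a
    rw [neg_add_cancel]

theorem i_autHom (D : SecDer X) : T.i ≫ autHom T D = T.i := by
  refine hom_ext_of_base (fun y => rfl) fun V c e => ?_
  have e1 : T.i.appLE V ((T.i ≫ autHom T D) ⁻¹ᵁ V) e c = T.iA V c := by
    change (T.i.app V ≫ X.presheaf.map (𝟙 _)) c = _
    rw [X.presheaf.map_id, Category.comp_id]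
    rfl
  rw [e1]
  change T.iA V ((autHom T D).app V c) = _
  rw [autHom_app, map_add, map_mul, T.iA_eV, mul_zero, add_zero]

end K682.DualAut
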