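import Groth.Agent.Deform.K682.DualAut

/-!
# The derivation attached to a retraction of the dual number thickening
-/

set_option autoImplicit false

universe u

open CategoryTheory Limits AlgebraicGeometry TopologicalSpace Opposite

namespace K682.DualLift

open Groth.Agent.Fdesc.LocGen K682.DualThick K682.DualAut

variable {X Y : Scheme.{u}} (T : Dat X Y)

/-- The function `e` over `q⁻¹ U`. -/
noncomputable def eU (U : X.Opens) : Γ(Y, T.q ⁻¹ᵁ U) := T.eV (T.q ⁻¹ᵁ U)

theorem le_i (U : X.Opens) : U ≤ T.i ⁻¹ᵁ (T.q ⁻¹ᵁ U) := by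
  intro y hy
  have h : (T.i ≫ T.q) y = y := by rw [T.hiq]; rfl
  change (T.i ≫ T.q) y ∈ U
  rw [h]
  exact hy

/-- Restriction along `i`. -/
noncomputable def iL (U : X.Opens) : Γ(Y, T.q ⁻¹ᵁ U) →+* Γ(X, U) := (T.i.appLE (T.q ⁻¹ᵁ U) U (le_i T U)).hom

theorem iL_eU (U : X.Opens) : iL T U (eU T U) = 0 := by
  have h : iL T U (eU T U) = ores (le_i T U) (T.iA _ (T.eV (T.q ⁻¹ᵁ U))) := rfl
  rw [h, T.iA_eV, map_zero]

theorem eU_sq (U : X.Opens) : eU T U * eU T U = 0 := T.eV_sq _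

theorem ores_eU {U V : X.Opens} (h : V ≤ U) : ores (T.q.preimage_mono h) (eU T U) = eU T V := T.ores_eV _

section

variable (f : Y ⟶ X) (hf : T.i ≫ f = 𝟙 X)

include hf in
theorem f_eq (y : Y) : f y = T.q y := by
  have h : f (T.i (T.q y)) = T.q y := by
    change (T.i ≫ f) (T.q y) = _
    rw [hf]; rfl
  rw [T.hqi] at h
  exact h

include hf in
theorem le_f (U : X.Opens) : T.q ⁻¹ᵁ U ≤ f ⁻¹ᵁ U := by
  intro y hy
  change f y ∈ U
  rw [f_eq T f hf]
  exact hy

/-- Pullback of functions along `f`. -/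
noncomputable def fA (U : X.Opens) : Γ(X, U) →+* Γ(Y, T.q ⁻¹ᵁ U) := (f.appLE U (T.q ⁻¹ᵁ U) (le_f T f hf U)).hom

theorem iL_fA (U : X.Opens) (a : Γ(X, U)) : iL T U (fA T f hf U a) = a := by
  have h : f.appLE U (T.q ⁻¹ᵁ U) (le_f T f hf U) ≫ T.i.appLE (T.q ⁻¹ᵁ U) U (le_i T U) = 𝟙 _ := by
    rw [Scheme.Hom.appLE_comp_appLE]
    exact appLE_of_eq_id _ hf _ _
  exact ConcreteCategory.congr_hom h a

theorem ores_fA {U V : X.Opens} (h : V ≤ U) (a : Γ(X, U)) :
    ores (T.q.preimage_mono h) (fA T f hf U a) = fA T f hf V (ores h a) := by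
  have h1 : f.appLE U (T.q ⁻¹ᵁ U) (le_f T f hf U) ≫ Y.presheaf.map (homOfLE (T.q.preimage_mono h)).op =
      X.presheaf.map (homOfLE h).op ≫ f.appLE V (T.q ⁻¹ᵁ V) (le_f T f hf V) := by
    rw [Scheme.Hom.appLE_map, Scheme.Hom.map_appLE]
  exact ConcreteCategory.congr_hom h1 a

end

theorem iL_q (U : X.Opens) (a : Γ(X, U)) : iL T U (T.q.app U a) = a := by
  have h := iL_fA T T.q T.hiq U a
  rw [fA, Scheme.Hom.appLE_eq_app] at h
  exact h

theorem exists_b (U : X.Opens) (c : Γ(Y, T.q ⁻¹ᵁ U)) : ∃ b, c = T.q.app U (iL T U c) + T.q.app U b * eU T U := by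
  obtain ⟨⟨a, b⟩, hab⟩ := (T.bij U).2 c
  refine ⟨b, ?_⟩
  have hab' : T.q.app U a + T.q.app U b * eU T U = c := hab
  have h : iL T U c = a := by
    rw [← hab', map_add, map_mul, iL_eU, mul_zero, add_zero, iL_q]
  rw [h]
  exact hab'.symm

theorem unique (U : X.Opens) {b b' : Γ(X, U)} (h : T.q.app U b * eU T U = T.q.app U b' * eU T U) : b = b' := by
  have h1 := (T.bij U).1 (a₁ := (0, b)) (a₂ := (0, b')) (by
    change T.q.app U 0 + T.q.app U b * eU T U = T.q.app U 0 + T.q.app U b' * eU T U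
    rw [h])
  exact congrArg Prod.snd h1

theorem mul_eU (U : X.Opens) (c : Γ(Y, T.q ⁻¹ᵁ U)) : c * eU T U = T.q.app U (iL T U c) * eU T U := by
  obtain ⟨b, hb⟩ := exists_b T U c
  nth_rw 1 [hb]
  rw [add_mul, mul_assoc, eU_sq, mul_zero, add_zero]

theorem ores_q {U V : X.Opens} (h : V ≤ U) (a : Γ(X, U)) :
    ores (T.q.preimage_mono h) (T.q.app U a) = T.q.app V (ores h a) :=
  (ConcreteCategory.congr_hom (T.q.naturality (homOfLE h).op) a).symm

section

variable (f : Y ⟶ X) (hf : T.i ≫ f = 𝟙 X)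

/-- The coefficient of `e` in `f^* a`. -/
noncomputable def coef (U : X.Opens) (a : Γ(X, U)) : Γ(X, U) := (exists_b T U (fA T f hf U a)).choose

theorem coef_spec (U : X.Opens) (a : Γ(X, U)) :
    fA T f hf U a = T.q.app U a + T.q.app U (coef T f hf U a) * eU T U := by
  have h : fA T f hf U a = T.q.app U (iL T U (fA T f hf U a)) + T.q.app U (coef T f hf U a) * eU T U :=
    (exists_b T U (fA T f hf U a)).choose_spec
  rw [iL_fA] at h
  exact h

theorem coef_unique (U : X.Opens) (a b : Γ(X, U)) (h : fA T f hf U a = T.q.app U a + T.q.app U b * eU T U) :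
    coef T f hf U a = b := by
  apply unique T U
  rw [coef_spec] at h
  exact add_left_cancel h

/-- The derivation attached to a retraction. -/
noncomputable def ofLift : SecDer X where
  δ U :=
    { toFun := coef T f hf U
      map_zero' := coef_unique T f hf U 0 0 (by rw [map_zero, map_zero, zero_mul, add_zero])
      map_add' := fun a b => coef_unique T f hf U _ _ (by
        rw [map_add, coef_spec, coef_spec, map_add, map_add, add_mul]; abel) }
  leib U a b := coef_unique T f hf U _ _ (by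
    have h3 := eU_sq T U
    rw [map_mul, coef_spec, coef_spec, map_mul, map_add, map_mul, map_mul]
    change _ = T.q.app U a * T.q.app U b + (T.q.app U a * T.q.app U (coef T f hf U b) +
      T.q.app U b * T.q.app U (coef T f hf U a)) * eU T U
    linear_combination (T.q.app U (coef T f hf U a) * T.q.app U (coef T f hf U b)) * h3)
  nat {U V} h a := by
    refine (coef_unique T f hf V (ores h a) (ores h (coef T f hf U a)) ?_).symm
    rw [← ores_fA T f hf h, coef_spec, map_add, map_mul, ores_q T h, ores_q T h, ores_eU T h]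

theorem ofLift_spec (U : X.Opens) (a : Γ(X, U)) :
    fA T f hf U a = T.q.app U a + T.q.app U ((ofLift T f hf).δ U a) * eU T U := coef_spec T f hf U a

end

theorem i_autHom_q (D : SecDer X) : T.i ≫ (autHom T D ≫ T.q) = 𝟙 X := by
  rw [← Category.assoc, i_autHom, T.hiq]

theorem fA_autHom_q (D : SecDer X) (U : X.Opens) (a : Γ(X, U)) :
    fA T (autHom T D ≫ T.q) (i_autHom_q T D) U a = T.q.app U a + T.q.app U (D.δ U a) * eU T U := by
  have h1 : fA T (autHom T D ≫ T.q) (i_autHom_q T D) U a = (autHom T D).app (T.q ⁻¹ᵁ U) (T.q.app U a) := by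
    change ((autHom T D ≫ T.q).app U ≫ Y.presheaf.map (𝟙 _)) a = _
    rw [Y.presheaf.map_id, Category.comp_id]
    rfl
  have hqr : ∀ a : Γ(X, U), T.q.app U a = T.qL (T.q ⁻¹ᵁ U) (ores (by
      intro y hy
      change (T.i ≫ T.q) y ∈ U at hy
      rw [T.hiq] at hy
      exact hy) a) := by
    intro a
    have h2 : T.q.app U = X.presheaf.map (homOfLE (show T.i ⁻¹ᵁ (T.q ⁻¹ᵁ U) ≤ U by
      intro y hy
      change (T.i ≫ T.q) y ∈ U at hy
      rw [T.hiq] at hy
      exact hy)).op ≫ T.q.appLE _ (T.q ⁻¹ᵁ U) (T.le_q _) := by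
      rw [Scheme.Hom.map_appLE, Scheme.Hom.appLE_eq_app]
    exact ConcreteCategory.congr_hom h2 a
  rw [h1, autHom_app, hqr (D.δ U a), D.nat]
  congr 4
  rw [hqr a, T.iA_qL]

theorem ofLift_autHom (D : SecDer X) : ofLift T (autHom T D ≫ T.q) (i_autHom_q T D) = D := by
  ext U a
  exact coef_unique T _ _ U a _ (fA_autHom_q T D U a)

/-- Morphisms `f, g : Y ⟶ X` which are retractions of `i` and agree over all `q⁻¹ U` are equal. -/
theorem lift_ext (f g : Y ⟶ X) (hf : T.i ≫ f = 𝟙 X) (hg : T.i ≫ g = 𝟙 X)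
    (h : ∀ (U : X.Opens) (a : Γ(X, U)), fA T f hf U a = fA T g hg U a) : f = g := by
  have hb : ∀ y, f y = g y := fun y => by rw [f_eq T f hf, f_eq T g hg]
  refine hom_ext_of_base hb fun U c e => ?_
  have h1 : f ⁻¹ᵁ U ≤ T.q ⁻¹ᵁ U := by
    intro y hy
    change f y ∈ U at hy
    rw [f_eq T f hf] at hy
    exact hy
  have h2 := congrArg (ores h1) (h U c)
  have h3 : f.appLE U (T.q ⁻¹ᵁ U) (le_f T f hf U) ≫ Y.presheaf.map (homOfLE h1).op = f.app U := by
    rw [Scheme.Hom.appLE_map, Scheme.Hom.appLE_eq_app]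
  have h4 : g.appLE U (T.q ⁻¹ᵁ U) (le_f T g hg U) ≫ Y.presheaf.map (homOfLE h1).op = g.appLE U _ e := by
    rw [Scheme.Hom.appLE_map]
  rw [← h3, ← h4]
  exact h2

theorem eq_autHom_ofLift (f : Y ⟶ X) (hf : T.i ≫ f = 𝟙 X) : f = autHom T (ofLift T f hf) ≫ T.q := by
  apply lift_ext T _ _ hf (i_autHom_q T _)
  intro U a
  rw [fA_autHom_q, ← ofLift_spec]

end K682.DualLift
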