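import Groth.Agent.S15988
import Groth.Agent.Fga.DualPushout
import Mathlib.RingTheory.Flat.EquationalCriterion
import Mathlib.RingTheory.Smooth.Basic
import Mathlib.RingTheory.DualNumber

/-!
# Flat algebras over the dual numbers: the trivialization of a smooth fibre with marked points
-/

set_option autoImplicit false
universe u v

open DualNumber

namespace K682.DualRing

/-- The annihilator of `ε` in a flat algebra over the dual numbers. -/
theorem eps_mul_eq_zero {k : Type u} [Field k] {C : Type u} [CommRing C] [Algebra (DualNumber k) C]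
    [Module.Flat (DualNumber k) C] (c : C) (hc : algebraMap (DualNumber k) C ε * c = 0) :
    ∃ c', c = algebraMap (DualNumber k) C ε * c' := by
  have h : ∑ i : Fin 1, (fun _ => ε : Fin 1 → DualNumber k) i • (fun _ => c : Fin 1 → C) i = 0 := by
    simp [Algebra.smul_def, hc]
  obtain ⟨n, a, y, h1, h2⟩ :=
    Module.Flat.isTrivialRelation_of_sum_smul_eq_zero (R := DualNumber k) (M := C) h
  have h1' := h1 0
  change c = _ at h1'
  have h3 : ∀ j, a 0 j = ε * algebraMap k (DualNumber k) (a 0 j).snd := by
    intro j
    have h2' := h2 j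
    simp only [Fin.isValue, Finset.univ_unique, Fin.default_eq_zero, Finset.sum_singleton] at h2'
    have h4 := congrArg TrivSqZeroExt.snd h2'
    simp at h4
    ext
    · simp [h4, TrivSqZeroExt.algebraMap_eq_inl]
    · simp [TrivSqZeroExt.algebraMap_eq_inl]
  refine ⟨∑ j, algebraMap (DualNumber k) C (algebraMap k (DualNumber k) (a 0 j).snd) * y j, ?_⟩
  rw [h1', Finset.mul_sum]
  refine Finset.sum_congr rfl fun j _ => ?_
  rw [Algebra.smul_def]
  conv_lhs => rw [h3 j, map_mul]
  ring

/-- A flat algebra over `k[ε]` with smooth fibre `B` at the closed point and sections is the trivial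
deformation, compatibly with the sections. -/
theorem exists_ringHom {k : Type u} [Field k] {B C : Type u} [CommRing B] [CommRing C] [Algebra k B]
    [Algebra.Smooth k B] [Algebra (DualNumber k) C] [Module.Flat (DualNumber k) C]
    (π : C →+* B) (hπ : Function.Surjective π)
    (hker : ∀ c, π c = 0 → ∃ c', c = algebraMap (DualNumber k) C ε * c')
    (hcomm : ∀ z : DualNumber k, π (algebraMap (DualNumber k) C z) = algebraMap k B z.fst)
    {ι : Type v} [Finite ι] (q : ι → (B →ₐ[k] k)) (hq : Function.Injective q)
    (q' : ι → (C →ₐ[DualNumber k] DualNumber k)) (hqq : ∀ i c, (q' i c).fst = q i (π c)) :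
    ∃ r : B →+* C, (∀ a : k, r (algebraMap k B a) =
        algebraMap (DualNumber k) C (algebraMap k (DualNumber k) a)) ∧
      (∀ b, π (r b) = b) ∧ (∀ i b, q' i (r b) = algebraMap k (DualNumber k) (q i b)) ∧
      Function.Bijective (fun x : B × B => r x.1 + r x.2 * algebraMap (DualNumber k) C ε) := by
  let algk : Algebra k C := ((algebraMap (DualNumber k) C).comp (algebraMap k (DualNumber k))).toAlgebra
  have halgk : ∀ a : k, algebraMap k C a = algebraMap (DualNumber k) C (algebraMap k (DualNumber k) a) :=
    fun _ => rfl
  set e : C := algebraMap (DualNumber k) C ε with he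
  have hee : e * e = 0 := by rw [he, ← map_mul, DualNumber.eps_mul_eps, map_zero]
  have hπe : π e = 0 := by rw [he, hcomm]; simp
  let πk : C →ₐ[k] B :=
    { π with
      commutes' := fun a => by
        change π (algebraMap (DualNumber k) C (algebraMap k (DualNumber k) a)) = _
        rw [hcomm]
        simp [TrivSqZeroExt.algebraMap_eq_inl] }
  have hnil : IsNilpotent (RingHom.ker πk) := by
    refine ⟨2, ?_⟩
    rw [Ideal.zero_eq_bot, eq_bot_iff, pow_two, Ideal.mul_le]
    intro a ha b hb
    obtain ⟨a', rfl⟩ := hker a ha
    obtain ⟨b', rfl⟩ := hker b hb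
    rw [Ideal.mem_bot]
    linear_combination a' * b' * hee
  let s : B →ₐ[k] C := Algebra.FormallySmooth.liftOfSurjective (AlgHom.id k B) πk hπ hnil
  have hs : ∀ b, π (s b) = b := fun b =>
    DFunLike.congr_fun (Algebra.FormallySmooth.comp_liftOfSurjective (AlgHom.id k B) πk hπ hnil) b
  -- sections
  let d : ι → (B →ₗ[k] k) := fun i =>
    { toFun := fun a => - (q' i (s a)).snd
      map_add' := fun a b => by
        simp only [map_add, TrivSqZeroExt.snd_add, neg_add]
      map_smul' := fun r a => by
        have : q' i (s (r • a)) = r • q' i (s a) := by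
          rw [map_smul, Algebra.smul_def, map_mul, halgk, AlgHom.commutes, Algebra.smul_def]
          rfl
        rw [this]
        simp }
  have hd : ∀ i a b, d i (a * b) = q i a * d i b + q i b * d i a := by
    intro i a b
    change - (q' i (s (a * b))).snd = q i a * (- (q' i (s b)).snd) + q i b * (- (q' i (s a)).snd)
    rw [map_mul, map_mul, TrivSqZeroExt.snd_mul, hqq, hqq, hs, hs]
    simp
    ring
  obtain ⟨D, hD⟩ := Groth.Agent.S15988.exists_derivation q hq d hd
  let r : B →+* C :=
    { toFun := fun b => s b + e * s (D b)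
      map_one' := by simp
      map_zero' := by simp
      map_add' := fun a b => by simp only [map_add]; ring
      map_mul' := fun a b => by
        simp only [map_mul, Derivation.leibniz, smul_eq_mul, map_add]
        linear_combination (- (s (D a)) * s (D b)) * hee }
  have hr : ∀ b, r b = s b + e * s (D b) := fun _ => rfl
  have hπr : ∀ b, π (r b) = b := by
    intro b
    rw [hr, map_add, map_mul, hπe, hs, zero_mul, add_zero]
  refine ⟨r, fun a => ?_, hπr, fun i b => ?_, ?_, ?_⟩
  · rw [hr, D.map_algebraMap, map_zero, mul_zero, add_zero, AlgHom.commutes, halgk]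
  · rw [hr, map_add, map_mul, he, AlgHom.commutes]
    have h1 : q i (D b) = - (q' i (s b)).snd := hD i b
    ext
    · simp [hqq, hs, TrivSqZeroExt.algebraMap_eq_inl]
    · simp [hqq, hs, h1, TrivSqZeroExt.algebraMap_eq_inl]
  · -- injective
    rintro ⟨a, b⟩ ⟨a', b'⟩ h
    dsimp only at h
    have h1 : a = a' := by
      have := congrArg π h
      rw [map_add, map_add, map_mul, map_mul, hπe, mul_zero, mul_zero, add_zero, add_zero, hπr,
        hπr] at this
      exact this
    subst h1
    have h2 : e * r (b - b') = 0 := by
      rw [map_sub]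
      linear_combination h
    obtain ⟨c', hc'⟩ := eps_mul_eq_zero _ h2
    have h3 := congrArg π hc'
    rw [hπr, map_mul] at h3
    change b - b' = π e * _ at h3
    rw [hπe, zero_mul, sub_eq_zero] at h3
    rw [h3]
  · -- surjective
    intro y
    have h1 : π (y - r (π y)) = 0 := by rw [map_sub, hπr, sub_self]
    obtain ⟨c', hc'⟩ := hker _ h1
    have h2 : π (c' - r (π c')) = 0 := by rw [map_sub, hπr, sub_self]
    obtain ⟨c'', hc''⟩ := hker _ h2
    refine ⟨(π y, π c'), ?_⟩
    change r (π y) + r (π c') * e = y
    change y - r (π y) = e * c' at hc'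
    change c' - r (π c') = e * c'' at hc''
    linear_combination (-1) * hc' - e * hc'' - c'' * hee

end K682.DualRing
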