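import Groth.Agent.Deform.K682.IdAut
import Groth.Agent.Fga.FreeSec
import Groth.Agent.Fga.DualPushout
import Mathlib.Algebra.DualNumber
import Mathlib.AlgebraicGeometry.Morphisms.ClosedImmersion
import Mathlib.AlgebraicGeometry.Morphisms.UnderlyingMap

/-!
# The trivial thickening by dual numbers

`Dat X Y`: morphisms `q : Y ⟶ X`, `i : X ⟶ Y`, a function `e` on `Y` with `e² = 0` such that every section over `q⁻¹ U` is
uniquely `q^* a + q^* b e`.

* `exists_dat`: the data attached to `Y = X ×_k k[ε]`.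
* `Dat.decomp`, `Dat.mul_eV`: decompositions over any open of `Y`.
-/

set_option autoImplicit false

universe u

open CategoryTheory Limits AlgebraicGeometry TopologicalSpace Opposite

namespace K682.DualThick

open Groth.Agent.Fdesc.LocGen

/-- The trivial thickening by dual numbers. -/
structure Dat (X Y : Scheme.{u}) where
  q : Y ⟶ X
  i : X ⟶ Y
  e : Γ(Y, ⊤)
  hiq : i ≫ q = 𝟙 X
  hqi : ∀ y : Y, i (q y) = y
  hee : e * e = 0
  hie : i.appTop e = 0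
  bij : ∀ U : X.Opens, Function.Bijective
    (fun ab : Γ(X, U) × Γ(X, U) => q.app U ab.1 + q.app U ab.2 * ores (le_top : q ⁻¹ᵁ U ≤ ⊤) e)

theorem appLE_of_eq_id {X : Scheme.{u}} (g : X ⟶ X) (hg : g = 𝟙 X) (U : X.Opens) (h : U ≤ g ⁻¹ᵁ U) :
    g.appLE U U h = 𝟙 _ := by
  subst hg
  have h1 : (𝟙 X : X ⟶ X).appLE U U h = 𝟙 _ ≫ X.presheaf.map (𝟙 (op U)) := rfl
  rw [h1, X.presheaf.map_id, Category.comp_id]

namespace Dat

variable {X Y : Scheme.{u}} (T : Dat X Y)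

theorem le_q (V : Y.Opens) : V ≤ T.q ⁻¹ᵁ (T.i ⁻¹ᵁ V) := by
  intro y hy
  change T.i (T.q y) ∈ V
  rw [T.hqi]
  exact hy

theorem eq_q (V : Y.Opens) : T.q ⁻¹ᵁ (T.i ⁻¹ᵁ V) = V := by
  refine le_antisymm ?_ (T.le_q V)
  intro y hy
  have h : T.i (T.q y) ∈ V := hy
  rw [T.hqi] at h
  exact h

/-- The function `e` on `V`. -/
noncomputable def eV (V : Y.Opens) : Γ(Y, V) := ores (le_top : V ≤ ⊤) T.e

theorem eV_sq (V : Y.Opens) : T.eV V * T.eV V = 0 := by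
  rw [eV, ← map_mul, T.hee, map_zero]

theorem ores_eV {V W : Y.Opens} (h : V ≤ W) : ores h (T.eV W) = T.eV V := by
  rw [eV, eV, ores_ores]

/-- Pullback of functions along `q`. -/
noncomputable def qL (V : Y.Opens) : Γ(X, T.i ⁻¹ᵁ V) →+* Γ(Y, V) :=
  (T.q.appLE (T.i ⁻¹ᵁ V) V (T.le_q V)).hom

/-- Restriction of functions along `i`. -/
noncomputable def iA (V : Y.Opens) : Γ(Y, V) →+* Γ(X, T.i ⁻¹ᵁ V) := (T.i.app V).hom

theorem iA_qL (V : Y.Opens) (a : Γ(X, T.i ⁻¹ᵁ V)) : T.iA V (T.qL V a) = a := by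
  have h : T.q.appLE (T.i ⁻¹ᵁ V) V (T.le_q V) ≫ T.i.appLE V (T.i ⁻¹ᵁ V) le_rfl =
      𝟙 _ := by
    rw [Scheme.Hom.appLE_comp_appLE]
    exact appLE_of_eq_id _ T.hiq _ _
  rw [Scheme.Hom.appLE_eq_app] at h
  exact ConcreteCategory.congr_hom h a

theorem iA_eV (V : Y.Opens) : T.iA V (T.eV V) = 0 := by
  have h := ConcreteCategory.congr_hom (T.i.naturality (homOfLE (le_top : V ≤ ⊤)).op) T.e
  have h2 : T.iA V (T.eV V) = X.presheaf.map ((Opens.map T.i.base).map (homOfLE (le_top : V ≤ ⊤))).op (T.i.appTop T.e) := h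
  rw [h2, T.hie]
  exact map_zero _

theorem ores_qL {V W : Y.Opens} (h : V ≤ W) (a : Γ(X, T.i ⁻¹ᵁ W)) :
    ores h (T.qL W a) = T.qL V (ores (T.i.preimage_mono h) a) := by
  have h1 : T.q.appLE (T.i ⁻¹ᵁ W) W (T.le_q W) ≫ Y.presheaf.map (homOfLE h).op =
      X.presheaf.map (homOfLE (T.i.preimage_mono h)).op ≫ T.q.appLE (T.i ⁻¹ᵁ V) V (T.le_q V) := by
    rw [Scheme.Hom.appLE_map, Scheme.Hom.map_appLE]
  exact ConcreteCategory.congr_hom h1 a

theorem ores_iA {V W : Y.Opens} (h : V ≤ W) (c : Γ(Y, W)) :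
    ores (T.i.preimage_mono h) (T.iA W c) = T.iA V (ores h c) :=
  (ConcreteCategory.congr_hom (T.i.naturality (homOfLE h).op) c).symm

theorem bij' (V : Y.Opens) : Function.Bijective
    (fun ab : Γ(X, T.i ⁻¹ᵁ V) × Γ(X, T.i ⁻¹ᵁ V) => T.qL V ab.1 + T.qL V ab.2 * T.eV V) := by
  have h1 := T.bij (T.i ⁻¹ᵁ V)
  have h2 : Function.Bijective (ores (T.le_q V)) := by
    have h3 : IsIso (Y.presheaf.map (homOfLE (T.le_q V)).op) := by
      have h4 : homOfLE (T.le_q V) = eqToHom (T.eq_q V).symm := rfl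
      rw [h4]
      infer_instance
    exact ConcreteCategory.bijective_of_isIso (Y.presheaf.map (homOfLE (T.le_q V)).op)
  convert h2.comp h1 using 1
  funext ab
  rw [Function.comp_apply, map_add, map_mul, ores_ores]
  rfl

theorem decomp (V : Y.Opens) (c : Γ(Y, V)) : ∃ b, c = T.qL V (T.iA V c) + T.qL V b * T.eV V := by
  obtain ⟨⟨a, b⟩, hab⟩ := (T.bij' V).2 c
  refine ⟨b, ?_⟩
  have h : T.iA V c = a := by
    rw [← hab]
    change T.iA V (T.qL V a + T.qL V b * T.eV V) = a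
    rw [map_add, map_mul, T.iA_qL, T.iA_eV, mul_zero, add_zero]
  rw [h]
  exact hab.symm

theorem unique (V : Y.Opens) {b b' : Γ(X, T.i ⁻¹ᵁ V)} (h : T.qL V b * T.eV V = T.qL V b' * T.eV V) : b = b' := by
  have h1 := (T.bij' V).1 (a₁ := (0, b)) (a₂ := (0, b')) (by
    change T.qL V 0 + T.qL V b * T.eV V = T.qL V 0 + T.qL V b' * T.eV V
    rw [h])
  exact congrArg Prod.snd h1

theorem mul_eV (V : Y.Opens) (c : Γ(Y, V)) : c * T.eV V = T.qL V (T.iA V c) * T.eV V := by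
  obtain ⟨b, hb⟩ := T.decomp V c
  nth_rw 1 [hb]
  rw [add_mul, mul_assoc, T.eV_sq, mul_zero, add_zero]

theorem iA_eq_zero (V : Y.Opens) (c : Γ(Y, V)) (h : T.iA V c = 0) : ∃ b, c = T.qL V b * T.eV V := by
  obtain ⟨b, hb⟩ := T.decomp V c
  refine ⟨b, ?_⟩
  rw [h, map_zero, zero_add] at hb
  exact hb

end Dat

end K682.DualThick
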