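import Mathlib.Algebra.Homology.DerivedCategory.Ext.ExactSequences
import Mathlib.Algebra.Homology.DerivedCategory.Ext.EnoughInjectives
import Mathlib.CategoryTheory.Abelian.Basic
import Mathlib.CategoryTheory.Preadditive.Injective.Basic

/-!
# Killing an extension class by an epimorphism when `Ext²` vanishes

`exists_cover`: in an abelian category with enough injectives, let `α : G ⟶ P`, `β : P ⟶ G` with `ker α = im β`,
`ker β = im α`, and let `π : P ⟶ Q` be a cokernel of `α`. If `Ext²(Q, Q) = 0` there are `v : H ⟶ P` epi with kernel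
`κ : Q ⟶ H` and `m : G ⟶ H` with `m ≫ v = α` and `β ≫ m = π ≫ κ`.
-/

set_option autoImplicit false

universe w v u

open CategoryTheory CategoryTheory.Limits

namespace K682.ExtKill

variable {C : Type u} [Category.{v} C] [Abelian C]

/-- Extension of maps along a mono with cokernel `Q` when `Ext¹(Q, R) = 0`. -/
theorem exists_extension [HasExt.{w} C] (S : ShortComplex C) (hS : S.ShortExact) {R : C}
    (h : Subsingleton (Abelian.Ext.{w} S.X₃ R 1)) (f : S.X₁ ⟶ R) : ∃ g : S.X₂ ⟶ R, S.f ≫ g = f := by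
  obtain ⟨x, hx⟩ := Abelian.Ext.contravariant_sequence_exact₁ hS R (Abelian.Ext.mk₀ f)
    (n₁ := 1) (by norm_num) (Subsingleton.elim _ _)
  obtain ⟨r, rfl⟩ := (Abelian.Ext.mk₀_bijective S.X₂ R).2 x
  refine ⟨r, (Abelian.Ext.mk₀_bijective S.X₁ R).1 ?_⟩
  rw [← hx, Abelian.Ext.mk₀_comp_mk₀]

/-- Dimension shift. -/
theorem subsingleton_ext_one [HasExt.{w} C] (S : ShortComplex C) (hS : S.ShortExact) [Injective S.X₂] {Q : C}
    (h : Subsingleton (Abelian.Ext.{w} Q S.X₁ 2)) : Subsingleton (Abelian.Ext.{w} Q S.X₃ 1) := by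
  refine subsingleton_of_forall_eq 0 fun x => ?_
  obtain ⟨y, hy⟩ := Abelian.Ext.covariant_sequence_exact₃ Q hS x (n₁ := 2) (by norm_num) (Subsingleton.elim _ _)
  rw [← hy, Abelian.Ext.eq_zero_of_injective y, Abelian.Ext.zero_comp]

theorem exists_cover [HasExt.{w} C] [EnoughInjectives C] {G P Q : C} (α : G ⟶ P) (β : P ⟶ G) (π : P ⟶ Q)
    (wπ : α ≫ π = 0) [Epi π] (hπ : (ShortComplex.mk α π wπ).Exact)
    (w1 : α ≫ β = 0) (w2 : β ≫ α = 0)
    (h1 : (ShortComplex.mk α β w1).Exact) (h2 : (ShortComplex.mk β α w2).Exact)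
    (h : Subsingleton (Abelian.Ext.{w} Q Q 2)) :
    ∃ (H : C) (v : H ⟶ P) (κ : Q ⟶ H) (m : G ⟶ H) (wv : κ ≫ v = 0),
      (ShortComplex.mk κ v wv).ShortExact ∧ m ≫ v = α ∧ β ≫ m = π ≫ κ := by
  classical
  -- `s : Q ⟶ G`
  obtain ⟨s, hs⟩ : ∃ s : Q ⟶ G, π ≫ s = β := ⟨hπ.desc β w1, hπ.g_desc β w1⟩
  have hsm : Mono s := by
    have m1 : Mono (cokernel.desc α β w1) := (ShortComplex.mk α β w1).exact_iff_mono_cokernel_desc.1 h1
    have m2 : Mono (cokernel.desc α π wπ) := (ShortComplex.mk α π wπ).exact_iff_mono_cokernel_desc.1 hπ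
    have m3 : Epi (cokernel.desc α π wπ) := epi_of_epi_fac (cokernel.π_desc α π wπ)
    have m4 : IsIso (cokernel.desc α π wπ) := isIso_of_mono_of_epi _
    have m5 : s = inv (cokernel.desc α π wπ) ≫ cokernel.desc α β w1 := by
      rw [IsIso.eq_inv_comp, ← cancel_epi (cokernel.π α), cokernel.π_desc_assoc, hs, cokernel.π_desc]
    rw [m5]
    exact mono_comp _ _
  have ws : s ≫ α = 0 := by
    rw [← cancel_epi π, ← Category.assoc, hs, w2, comp_zero]
  have h3 : (ShortComplex.mk s α ws).Exact := by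
    let φ : ShortComplex.mk β α w2 ⟶ ShortComplex.mk s α ws :=
      { τ₁ := π
        τ₂ := 𝟙 G
        τ₃ := 𝟙 P
        comm₁₂ := by simp [hs]
        comm₂₃ := by simp }
    have e1 : Epi φ.τ₁ := inferInstanceAs (Epi π)
    have e2 : IsIso φ.τ₂ := inferInstanceAs (IsIso (𝟙 G))
    have e3 : Mono φ.τ₃ := inferInstanceAs (Mono (𝟙 P))
    exact (ShortComplex.exact_iff_of_epi_of_isIso_of_mono φ).1 h2
  have ws' : s ≫ factorThruImage α = 0 := by
    rw [← cancel_mono (image.ι α), Category.assoc, image.fac, ws, zero_comp]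
  have h4 : (ShortComplex.mk s (factorThruImage α) ws').Exact := by
    let φ : ShortComplex.mk s (factorThruImage α) ws' ⟶ ShortComplex.mk s α ws :=
      { τ₁ := 𝟙 Q
        τ₂ := 𝟙 G
        τ₃ := image.ι α
        comm₁₂ := by simp
        comm₂₃ := by simp }
    have e1 : Epi φ.τ₁ := inferInstanceAs (Epi (𝟙 Q))
    have e2 : IsIso φ.τ₂ := inferInstanceAs (IsIso (𝟙 G))
    have e3 : Mono φ.τ₃ := inferInstanceAs (Mono (image.ι α))
    exact (ShortComplex.exact_iff_of_epi_of_isIso_of_mono φ).2 h3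
  have wi : image.ι α ≫ π = 0 := by
    rw [← cancel_epi (factorThruImage α), ← Category.assoc, image.fac, wπ, comp_zero]
  have h5 : (ShortComplex.mk (image.ι α) π wi).ShortExact := by
    let φ : ShortComplex.mk α π wπ ⟶ ShortComplex.mk (image.ι α) π wi :=
      { τ₁ := factorThruImage α
        τ₂ := 𝟙 P
        τ₃ := 𝟙 Q
        comm₁₂ := by simp
        comm₂₃ := by simp }
    have e1 : Epi φ.τ₁ := inferInstanceAs (Epi (factorThruImage α))
    have e2 : IsIso φ.τ₂ := inferInstanceAs (IsIso (𝟙 P))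
    have e3 : Mono φ.τ₃ := inferInstanceAs (Mono (𝟙 Q))
    exact { exact := (ShortComplex.exact_iff_of_epi_of_isIso_of_mono φ).1 hπ
            mono_f := inferInstanceAs (Mono (image.ι α))
            epi_g := inferInstanceAs (Epi π) }
  -- the injective embedding
  let ι : Q ⟶ Injective.under Q := Injective.ι Q
  have hι : Mono ι := inferInstanceAs (Mono (Injective.ι Q))
  let p : Injective.under Q ⟶ cokernel ι := cokernel.π ι
  have wp : ι ≫ p = 0 := cokernel.condition ι
  have hI : (ShortComplex.mk ι p wp).ShortExact :=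
    { exact := ShortComplex.exact_cokernel ι
      mono_f := hι
      epi_g := inferInstanceAs (Epi (cokernel.π ι)) }
  have hinj : Injective (ShortComplex.mk ι p wp).X₂ := inferInstanceAs (Injective (Injective.under Q))
  have hR : Subsingleton (Abelian.Ext.{w} Q (cokernel ι) 1) := subsingleton_ext_one _ hI h
  let e : G ⟶ Injective.under Q := Injective.factorThru ι s
  have he : s ≫ e = ι := Injective.comp_factorThru ι s
  have hfe : Epi (ShortComplex.mk s (factorThruImage α) ws').g := inferInstanceAs (Epi (factorThruImage α))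
  obtain ⟨x, hx⟩ : ∃ x : image α ⟶ cokernel ι, factorThruImage α ≫ x = e ≫ p := by
    have h6 : s ≫ e ≫ p = 0 := by rw [← Category.assoc, he, wp]
    exact ⟨h4.desc (e ≫ p) h6, h4.g_desc (e ≫ p) h6⟩
  obtain ⟨W, hW⟩ := exists_extension _ h5 hR x
  have hW' : image.ι α ≫ W = x := hW
  have hαW : α ≫ W = e ≫ p := by
    rw [← image.fac α, Category.assoc, hW', hx]
  have hep : Epi p := inferInstanceAs (Epi (cokernel.π ι))
  let v : pullback W p ⟶ P := pullback.fst W p
  let κ : Q ⟶ pullback W p := pullback.lift 0 ι (by rw [zero_comp, wp])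
  have hκ1 : κ ≫ v = 0 := pullback.lift_fst _ _ _
  have hκ2 : κ ≫ pullback.snd W p = ι := pullback.lift_snd _ _ _
  have hκm : Mono κ := by
    have : Mono (κ ≫ pullback.snd W p) := by rw [hκ2]; exact hι
    exact mono_of_mono κ (pullback.snd W p)
  let m : G ⟶ pullback W p := pullback.lift α e hαW
  refine ⟨pullback W p, v, κ, m, hκ1, ?_, pullback.lift_fst _ _ _, ?_⟩
  · refine { exact := ?_, mono_f := hκm, epi_g := inferInstanceAs (Epi (pullback.fst W p)) }
    refine ShortComplex.exact_of_f_is_kernel _ (KernelFork.IsLimit.ofι' κ hκ1 fun {Z} z hz => ?_)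
    have hz1 : z ≫ pullback.fst W p = 0 := hz
    have hz2 : (z ≫ pullback.snd W p) ≫ p = 0 := by
      rw [Category.assoc, ← pullback.condition, ← Category.assoc, hz1, zero_comp]
    have hz3 := hI.exact.lift_f (z ≫ pullback.snd W p) hz2
    refine ⟨hI.exact.lift (z ≫ pullback.snd W p) hz2, ?_⟩
    apply pullback.hom_ext
    · rw [Category.assoc, hz1]
      change _ ≫ κ ≫ v = 0
      rw [hκ1, comp_zero]
    · rw [Category.assoc, hκ2]
      exact hz3
  · apply pullback.hom_ext
    · rw [Category.assoc, Category.assoc]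
      change _ ≫ m ≫ v = _ ≫ κ ≫ v
      rw [hκ1, comp_zero]
      have : m ≫ v = α := pullback.lift_fst _ _ _
      rw [this, w2]
    · rw [Category.assoc, Category.assoc, hκ2]
      have : m ≫ pullback.snd W p = e := pullback.lift_snd _ _ _
      rw [this, ← hs, Category.assoc, he]

end K682.ExtKill
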