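import Mathlib.Algebra.Category.ModuleCat.Ext.HasExt
import Mathlib.Algebra.Category.ModuleCat.Projective
import Mathlib.Algebra.Homology.DerivedCategory.Ext.Linear
import Mathlib.Algebra.Homology.DerivedCategory.Ext.ExactSequences
import Mathlib.Algebra.Homology.DerivedCategory.Ext.EnoughProjectives
import Mathlib.Algebra.Homology.ShortComplex.ModuleCat
import Mathlib.LinearAlgebra.TensorProduct.Quotient
import Mathlib.LinearAlgebra.TensorProduct.Tower
import Mathlib.LinearAlgebra.TensorProduct.RightExactness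
import Mathlib.RingTheory.Finiteness.Projective
import Mathlib.RingTheory.Ideal.Quotient.Operations

/-!
# `Ext¹` from a presentation with projective middle term, and its base change to a quotient

* `K682.ExtOne.equiv`: for `0 → K → F → M → 0` exact with `F` projective,
  `Hom(K, N) / Hom(F, N) ≃ Ext¹(M, N)` (linear).
* `K682.ExtOne.quotEquiv`: for `0 → M → F → Ω → 0` with `M`, `F` projective, `M` finite, which stays exact
  modulo `𝔞`, `(R/𝔞) ⊗ Ext¹(Ω, R) ≃ Ext¹(Ω/𝔞Ω, R/𝔞)`.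
-/

set_option autoImplicit false
universe u

open CategoryTheory TensorProduct

namespace K682.ExtOne

section

variable {R : Type u} [CommRing R] {K F M : Type u} [AddCommGroup K] [AddCommGroup F]
  [AddCommGroup M] [Module R K] [Module R F] [Module R M]

/-- The short complex of an exact pair. -/
abbrev sc (i : K →ₗ[R] F) (p : F →ₗ[R] M) (hex : Function.Exact i p) : ShortComplex (ModuleCat.{u} R) :=
  ShortComplex.mk (ModuleCat.ofHom i) (ModuleCat.ofHom p) (by
    ext x; exact hex.apply_apply_eq_zero x)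

theorem shortExact (i : K →ₗ[R] F) (p : F →ₗ[R] M) (hex : Function.Exact i p)
    (hi : Function.Injective i) (hp : Function.Surjective p) : (sc i p hex).ShortExact where
  exact := (ShortComplex.ShortExact.moduleCat_exact_iff_function_exact _).2 hex
  mono_f := (ModuleCat.mono_iff_injective _).2 hi
  epi_g := (ModuleCat.epi_iff_surjective _).2 hp

/-- The connecting map. -/
noncomputable def conn (i : K →ₗ[R] F) (p : F →ₗ[R] M) (hex : Function.Exact i p)
    (hi : Function.Injective i) (hp : Function.Surjective p) (N : Type u) [AddCommGroup N] [Module R N] :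
    (K →ₗ[R] N) →ₗ[R] Abelian.Ext.{u} (ModuleCat.of R M) (ModuleCat.of R N) 1 where
  toFun f := (shortExact i p hex hi hp).extClass.comp (Abelian.Ext.mk₀ (ModuleCat.ofHom f)) (add_zero 1)
  map_add' f g := by
    rw [ModuleCat.ofHom_add, Abelian.Ext.mk₀_add, Abelian.Ext.comp_add]
  map_smul' r f := by
    have : ModuleCat.ofHom (r • f) = r • ModuleCat.ofHom f := rfl
    rw [this, Abelian.Ext.mk₀_smul, Abelian.Ext.comp_smul]
    rfl

theorem conn_surjective [Module.Projective R F] (i : K →ₗ[R] F) (p : F →ₗ[R] M)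
    (hex : Function.Exact i p)
    (hi : Function.Injective i) (hp : Function.Surjective p) (N : Type u) [AddCommGroup N] [Module R N] :
    Function.Surjective (conn i p hex hi hp N) := by
  intro x
  have hproj : Projective (ModuleCat.of R F) := ModuleCat.projective_of_categoryTheory_projective _
  obtain ⟨y, hy⟩ := Abelian.Ext.contravariant_sequence_exact₃ (shortExact i p hex hi hp)
    (Y := ModuleCat.of R N) (n₁ := 1) x (Abelian.Ext.eq_zero_of_projective _) (n₀ := 0) (by norm_num)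
  obtain ⟨f, rfl⟩ := (Abelian.Ext.mk₀_bijective _ _).2 y
  exact ⟨f.hom, hy⟩

theorem ker_conn (i : K →ₗ[R] F) (p : F →ₗ[R] M)
    (hex : Function.Exact i p)
    (hi : Function.Injective i) (hp : Function.Surjective p) (N : Type u) [AddCommGroup N] [Module R N] :
    LinearMap.ker (conn i p hex hi hp N) = LinearMap.range (LinearMap.lcomp R N i) := by
  ext f
  rw [LinearMap.mem_ker, LinearMap.mem_range]
  constructor
  · intro h
    obtain ⟨y, hy⟩ := Abelian.Ext.contravariant_sequence_exact₁ (shortExact i p hex hi hp)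
      (Y := ModuleCat.of R N) (n₀ := 0) (Abelian.Ext.mk₀ (ModuleCat.ofHom f)) (n₁ := 1) (by norm_num) h
    obtain ⟨g, rfl⟩ := (Abelian.Ext.mk₀_bijective _ _).2 y
    rw [Abelian.Ext.mk₀_comp_mk₀] at hy
    have := (Abelian.Ext.mk₀_bijective _ _).1 hy
    refine ⟨g.hom, ?_⟩
    ext x
    exact congrArg (fun h => h.hom x) this
  · rintro ⟨g, rfl⟩
    have h1 : Abelian.Ext.mk₀ (ModuleCat.ofHom (LinearMap.lcomp R N i g)) =
        (Abelian.Ext.mk₀ (sc i p hex).f).comp (Abelian.Ext.mk₀ (ModuleCat.ofHom g)) (add_zero 0) := by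
      rw [Abelian.Ext.mk₀_comp_mk₀]
      rfl
    change (shortExact i p hex hi hp).extClass.comp (Abelian.Ext.mk₀ (ModuleCat.ofHom
      (LinearMap.lcomp R N i g))) (add_zero 1) = 0
    rw [h1, ← Abelian.Ext.comp_assoc _ _ _ (add_zero 1) (add_zero 0) (by norm_num),
      (shortExact i p hex hi hp).extClass_comp, Abelian.Ext.zero_comp]

/-- `Hom(K, N) / Hom(F, N) ≃ Ext¹(M, N)`. -/
noncomputable def equiv [Module.Projective R F] (i : K →ₗ[R] F) (p : F →ₗ[R] M)
    (hex : Function.Exact i p)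
    (hi : Function.Injective i) (hp : Function.Surjective p) (N : Type u) [AddCommGroup N] [Module R N] :
    ((K →ₗ[R] N) ⧸ LinearMap.range (LinearMap.lcomp R N i)) ≃ₗ[R]
      Abelian.Ext.{u} (ModuleCat.of R M) (ModuleCat.of R N) 1 :=
  (Submodule.quotEquivOfEq _ _ (ker_conn i p hex hi hp N).symm).trans
    (LinearMap.quotKerEquivOfSurjective _ (conn_surjective i p hex hi hp N))

end

section Quot

variable {P : Type u} [CommRing P] (𝔞 : Ideal P) {M F : Type u} [AddCommGroup M]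
  [AddCommGroup F] [Module P M] [Module P F]

/-- Reduction of functionals modulo `𝔞`. -/
noncomputable def red (M : Type u) [AddCommGroup M] [Module P M] :
    (M →ₗ[P] P) →ₗ[P] ((P ⧸ 𝔞) ⊗[P] M →ₗ[P ⧸ 𝔞] (P ⧸ 𝔞)) where
  toFun f := LinearMap.liftBaseChange (P ⧸ 𝔞) (Algebra.linearMap P (P ⧸ 𝔞) ∘ₗ f)
  map_add' f g := by
    rw [LinearMap.comp_add]
    exact map_add (LinearMap.liftBaseChangeEquiv (P ⧸ 𝔞)) _ _
  map_smul' r f := by
    refine TensorProduct.AlgebraTensorModule.curry_injective (LinearMap.ext fun s => LinearMap.ext fun m => ?_)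
    change s • (algebraMap P (P ⧸ 𝔞) (r * f m)) = r • (s • algebraMap P (P ⧸ 𝔞) (f m))
    rw [map_mul, Algebra.smul_def r, smul_eq_mul, smul_eq_mul]
    ring

theorem red_tmul (f : M →ₗ[P] P) (s : P ⧸ 𝔞) (m : M) :
    red 𝔞 M f (s ⊗ₜ m) = s * algebraMap P (P ⧸ 𝔞) (f m) := rfl

theorem red_surjective [Module.Projective P M] : Function.Surjective (red 𝔞 M) := by
  intro g
  let g₀ : M →ₗ[P] (P ⧸ 𝔞) := (g.restrictScalars P) ∘ₗ (TensorProduct.mk P (P ⧸ 𝔞) M 1)
  obtain ⟨h, hh⟩ := Module.projective_lifting_property (Algebra.linearMap P (P ⧸ 𝔞)) g₀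
    Ideal.Quotient.mk_surjective
  refine ⟨h, ?_⟩
  refine TensorProduct.AlgebraTensorModule.curry_injective (LinearMap.ext fun s => LinearMap.ext fun m => ?_)
  change s * algebraMap P (P ⧸ 𝔞) (h m) = g (s ⊗ₜ m)
  have h1 : algebraMap P (P ⧸ 𝔞) (h m) = g (1 ⊗ₜ m) := LinearMap.congr_fun hh m
  rw [h1, ← smul_eq_mul, ← map_smul, TensorProduct.smul_tmul', smul_eq_mul, mul_one]

/-- A functional on a finite projective module with values in `𝔞` is in `𝔞 • M^∨`. -/
theorem mem_smul_top [Module.Finite P M] [Module.Projective P M] (k : M →ₗ[P] P)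
    (hk : ∀ m, k m ∈ 𝔞) : k ∈ (𝔞 • ⊤ : Submodule P (M →ₗ[P] P)) := by
  obtain ⟨n, f, g, -, -, hfg⟩ := Module.Finite.exists_comp_eq_id_of_projective P M
  have h1 : k = ∑ i : Fin n, k (f (Pi.single i 1)) • (LinearMap.proj i ∘ₗ g) := by
    ext m
    rw [LinearMap.sum_apply]
    have h2 : m = f (g m) := (LinearMap.congr_fun hfg m).symm
    conv_lhs => rw [h2, ← LinearMap.comp_apply k f, LinearMap.pi_apply_eq_sum_univ (k ∘ₗ f) (g m)]
    refine Finset.sum_congr rfl fun i _ => ?_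
    rw [LinearMap.smul_apply, LinearMap.comp_apply, LinearMap.comp_apply, LinearMap.proj_apply,
      smul_eq_mul, smul_eq_mul, mul_comm]
    congr 3
    ext j
    simp [Pi.single_apply, eq_comm]
  rw [h1]
  exact Submodule.sum_mem _ fun i _ => Submodule.smul_mem_smul (hk _) trivial

variable (φ : M →ₗ[P] F)

/-- `M^∨/F^∨ → (P' ⊗ M)^∨ / (P' ⊗ F)^∨`. -/
noncomputable def theta :
    ((M →ₗ[P] P) ⧸ LinearMap.range (LinearMap.lcomp P P φ)) →ₗ[P]
      (((P ⧸ 𝔞) ⊗[P] M →ₗ[P ⧸ 𝔞] (P ⧸ 𝔞)) ⧸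
        LinearMap.range (LinearMap.lcomp (P ⧸ 𝔞) (P ⧸ 𝔞) (φ.baseChange (P ⧸ 𝔞)))) :=
  Submodule.liftQ _ (((Submodule.mkQ _).restrictScalars P) ∘ₗ red 𝔞 M) (by
    rintro _ ⟨g, rfl⟩
    rw [LinearMap.mem_ker, LinearMap.comp_apply]
    refine (Submodule.Quotient.mk_eq_zero _).2 ⟨red 𝔞 F g, ?_⟩
    refine TensorProduct.AlgebraTensorModule.curry_injective (LinearMap.ext fun s => LinearMap.ext fun m => ?_)
    rfl)

theorem theta_mk (f : M →ₗ[P] P) : theta 𝔞 φ (Submodule.Quotient.mk f) =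
    Submodule.Quotient.mk (red 𝔞 M f) := rfl

theorem theta_surjective [Module.Projective P M] : Function.Surjective (theta 𝔞 φ) := by
  intro x
  obtain ⟨g, rfl⟩ := Submodule.Quotient.mk_surjective _ x
  obtain ⟨f, rfl⟩ := red_surjective 𝔞 g
  exact ⟨Submodule.Quotient.mk f, rfl⟩

theorem bijective_liftBaseChange_theta [Module.Finite P M] [Module.Projective P M]
    [Module.Projective P F] :
    Function.Bijective ((theta 𝔞 φ).liftBaseChange (P ⧸ 𝔞)) := by
  constructor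
  · rw [injective_iff_map_eq_zero]
    intro z hz
    obtain ⟨c, rfl⟩ := TensorProduct.mk_surjective P _ (P ⧸ 𝔞) Ideal.Quotient.mk_surjective z
    obtain ⟨f, rfl⟩ := Submodule.Quotient.mk_surjective _ c
    have hz' : theta 𝔞 φ (Submodule.Quotient.mk f) = 0 := by
      rw [← hz]
      exact (LinearMap.liftBaseChange_one_tmul _ _ _).symm
    rw [theta_mk] at hz'
    obtain ⟨g', hg'⟩ := (Submodule.Quotient.mk_eq_zero _).1 hz'
    obtain ⟨g, rfl⟩ := red_surjective 𝔞 g'
    have hk : ∀ m, (f - g ∘ₗ φ) m ∈ 𝔞 := by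
      intro m
      have h1 := LinearMap.congr_fun hg' (1 ⊗ₜ m)
      rw [red_tmul, LinearMap.lcomp_apply, LinearMap.baseChange_tmul, red_tmul, one_mul, one_mul] at h1
      rw [LinearMap.sub_apply, ← Ideal.Quotient.eq]
      exact h1.symm
    have hmem := mem_smul_top 𝔞 _ hk
    have h2 : (Submodule.Quotient.mk f : (M →ₗ[P] P) ⧸ LinearMap.range (LinearMap.lcomp P P φ)) =
        Submodule.Quotient.mk (f - g ∘ₗ φ) := by
      rw [Submodule.Quotient.eq, sub_sub_cancel]
      exact ⟨g, rfl⟩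
    rw [h2]
    refine Submodule.smul_induction_on (p := fun k => TensorProduct.mk P (P ⧸ 𝔞)
      ((M →ₗ[P] P) ⧸ LinearMap.range (LinearMap.lcomp P P φ)) 1 (Submodule.Quotient.mk k) = 0)
      hmem ?_ ?_
    · intro r hr n _
      rw [Submodule.Quotient.mk_smul, map_smul]
      change r • ((1 : P ⧸ 𝔞) ⊗ₜ[P] (Submodule.Quotient.mk n :
        (M →ₗ[P] P) ⧸ LinearMap.range (LinearMap.lcomp P P φ))) = 0
      rw [TensorProduct.smul_tmul']
      have : r • (1 : P ⧸ 𝔞) = 0 := by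
        rw [Algebra.smul_def, mul_one]
        exact Ideal.Quotient.eq_zero_iff_mem.2 hr
      rw [this, TensorProduct.zero_tmul]
    · intro x y hx hy
      rw [Submodule.Quotient.mk_add, map_add, hx, hy, add_zero]
  · intro x
    obtain ⟨c, rfl⟩ := theta_surjective 𝔞 φ x
    exact ⟨1 ⊗ₜ c, LinearMap.liftBaseChange_one_tmul _ _ _⟩

/-- `(R/𝔞) ⊗ Ext¹(Ω, R) ≃ Ext¹(Ω/𝔞Ω, R/𝔞)`. -/
theorem nonempty_quotEquiv [Module.Finite P M] [Module.Projective P M] [Module.Projective P F]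
    {Ω : Type u} [AddCommGroup Ω] [Module P Ω] (π : F →ₗ[P] Ω) (hφ : Function.Injective φ)
    (hπ : Function.Surjective π) (hex : Function.Exact φ π) (hinj : Function.Injective (φ.baseChange (P ⧸ 𝔞)))
    {Ω' : Type u} [AddCommGroup Ω'] [Module (P ⧸ 𝔞) Ω'] (e : ((P ⧸ 𝔞) ⊗[P] Ω) ≃ₗ[P ⧸ 𝔞] Ω') :
    Nonempty (((P ⧸ 𝔞) ⊗[P] Abelian.Ext.{u} (ModuleCat.of P Ω) (ModuleCat.of P P) 1) ≃ₗ[P ⧸ 𝔞]
      Abelian.Ext.{u} (ModuleCat.of (P ⧸ 𝔞) Ω') (ModuleCat.of (P ⧸ 𝔞) (P ⧸ 𝔞)) 1) := by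
  let e₁ := equiv φ π hex hφ hπ P
  let π' : ((P ⧸ 𝔞) ⊗[P] F) →ₗ[P ⧸ 𝔞] Ω' := e.toLinearMap ∘ₗ π.baseChange (P ⧸ 𝔞)
  have hπ' : Function.Surjective π' :=
    e.surjective.comp (LinearMap.lTensor_surjective (P ⧸ 𝔞) hπ)
  have hex' : Function.Exact (φ.baseChange (P ⧸ 𝔞)) π' := by
    have h0 : Function.Exact (φ.baseChange (P ⧸ 𝔞)) (π.baseChange (P ⧸ 𝔞)) :=
      lTensor_exact (P ⧸ 𝔞) hex hπ
    intro x
    rw [← h0 x]
    exact e.map_eq_zero_iff
  let e₂ := equiv (φ.baseChange (P ⧸ 𝔞)) π' hex' hinj hπ' (P ⧸ 𝔞)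
  exact ⟨(TensorProduct.AlgebraTensorModule.congr (LinearEquiv.refl (P ⧸ 𝔞) (P ⧸ 𝔞)) e₁.symm).trans
    ((LinearEquiv.ofBijective _ (bijective_liftBaseChange_theta 𝔞 φ)).trans e₂)⟩

end Quot

end K682.ExtOne
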