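import Mathlib.AlgebraicGeometry.Scheme
import Mathlib.RingTheory.Nilpotent.Basic

/-!
# Endomorphisms of a scheme which are the identity on points, from endomorphisms of sections

* `SecEnd Y`: a family of ring endomorphisms of `Γ(Y, V)` compatible with restriction and congruent to the identity modulo
  nilpotents;
* `SecEnd.hom`: the corresponding morphism `Y ⟶ Y`; `SecEnd.hom_app`.
-/

set_option autoImplicit false

universe u

open CategoryTheory AlgebraicGeometry TopologicalSpace Opposite

namespace K682.IdAut

/-- A compatible family of ring endomorphisms of the sections, congruent to the identity modulo nilpotents. -/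
structure SecEnd (Y : Scheme.{u}) where
  /-- the endomorphism of the sections over `V` -/
  σ : ∀ V : Y.Opens, Γ(Y, V) →+* Γ(Y, V)
  nat : ∀ (V W : Y.Opens) (h : V ⟶ W) (c : Γ(Y, W)),
    Y.presheaf.map h.op (σ W c) = σ V (Y.presheaf.map h.op c)
  nil : ∀ (V : Y.Opens) (c : Γ(Y, V)), IsNilpotent (σ V c - c)

namespace SecEnd

variable {Y : Scheme.{u}} (s : SecEnd Y)

/-- The morphism of presheafed spaces. -/
noncomputable def psHom : Y.toPresheafedSpace.Hom Y.toPresheafedSpace where
  base := 𝟙 _
  c := { app := fun V => CommRingCat.ofHom (s.σ V.unop)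
         naturality := fun V W f => by
           apply CommRingCat.hom_ext
           apply RingHom.ext
           intro c
           exact (s.nat W.unop V.unop f.unop c).symm }

theorem isLocalHom_stalkMap (y : Y) : IsLocalHom ((s.psHom).stalkMap y).hom := by
  refine ⟨fun g hg => ?_⟩
  obtain ⟨V, hV, c, rfl⟩ := TopCat.Presheaf.exists_germ_eq (F := Y.presheaf) g
  have h1 : (s.psHom).stalkMap y (Y.presheaf.germ V y hV c) = Y.presheaf.germ V y hV (s.σ V c) :=
    ConcreteCategory.congr_hom (PresheafedSpace.stalkMap_germ s.psHom V y hV) c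
  have h2 : IsUnit (Y.presheaf.germ V y hV (s.σ V c)) := by
    rw [← h1]
    exact hg
  have h3 : IsNilpotent (Y.presheaf.germ V y hV (s.σ V c - c)) := (s.nil V c).map _
  have h4 : (Y.presheaf.germ V y hV c : Y.presheaf.stalk y) =
      Y.presheaf.germ V y hV (s.σ V c) + -Y.presheaf.germ V y hV (s.σ V c - c) := by
    rw [map_sub]
    abel
  have h5 : IsUnit (Y.presheaf.germ V y hV c : Y.presheaf.stalk y) := by
    rw [h4]
    exact h3.neg.isUnit_add_left_of_commute h2 (Commute.all _ _)
  exact h5

/-- The endomorphism of the scheme. -/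
noncomputable def hom : Y ⟶ Y := ⟨⟨s.psHom, s.isLocalHom_stalkMap⟩⟩

theorem hom_apply (y : Y) : s.hom y = y := rfl

theorem hom_preimage (V : Y.Opens) : s.hom ⁻¹ᵁ V = V := rfl

theorem hom_app (V : Y.Opens) (c : Γ(Y, V)) : s.hom.app V c = s.σ V c := rfl

end SecEnd

end K682.IdAut
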