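import Groth.Agent.LoccohA.FibAss
import Groth.Agent.S1830
import Groth.Agent.S2069
import Groth.Agent.S0341
import Groth.Agent.Models.KoszulCot
import Groth.Agent.Models.NLIdeal
import Groth.Agent.CalgB.CMPoly
import Groth.Agent.LoccohA.EquidimS2
import Groth.Agent.Ega4B.DepthBasic
import Mathlib.RingTheory.Smooth.Locus
import Mathlib.RingTheory.Flat.EquationalCriterion

/-!
# Flat local complete intersections with generically smooth fibres

* `minimal_of_ass`: an associated prime of a flat lci algebra over a Noetherian ring is minimal in its fibre.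
* `subsingleton_of_injective`: a module which embeds in a flat finite module and whose localizations at the
  associated primes of the ring vanish is zero.
* `subsingleton_h1Cotangent`: `H_1(NL) = 0` for flat lci with generically smooth fibres.
-/

set_option autoImplicit false
universe u

open TensorProduct

namespace K682.LciAss

theorem hasSk_of_isCohenMacaulayRing (n : ℕ) (R : Type u) [CommRing R]
    (h : LocCoh.IsCohenMacaulayRing R) : LocCoh.HasSk n R R := by
  intro p hp
  have h1 := (h.isCohenMacaulayLocalRing_localization p).supportDim_eq_depth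
  have e := Groth.Agent.LoccohA.EquidimS2.localizedModuleSelfEquiv p.primeCompl
  have h2 : LocCoh.depth (Localization.AtPrime p) (LocalizedModule p.primeCompl R) =
      LocCoh.depth (Localization.AtPrime p) (Localization.AtPrime p) :=
    Groth.Agent.Ega4B.DepthBasic.depth_congr e
  rw [Module.supportDim_eq_of_equiv e, h2]
  exact (min_le_right _ _).trans h1.le

variable (A P : Type u) [CommRing A] [IsNoetherianRing A] [CommRing P] [Algebra A P]
  [Module.Flat A P]

omit [IsNoetherianRing A] in
theorem isCM_fiber (h : LCI.IsLCI A P) (p : Ideal A) [p.IsPrime] :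
    LocCoh.IsCohenMacaulayRing (p.Fiber P) := by
  have h1 : LocCoh.IsGorensteinRing (P ⊗[A] p.ResidueField) :=
    Groth.Agent.S1830.result A P h ⟨p, inferInstance⟩
  have h2 : LocCoh.IsCohenMacaulayRing (P ⊗[A] p.ResidueField) :=
    { toIsNoetherian := h1.toIsNoetherian
      isCohenMacaulayLocalRing_localization := fun q hq => by
        have := h1.isGorensteinLocalRing_localization q
        exact Groth.Agent.S0341.result _ }
  exact Groth.Agent.CalgB.CMPoly.isCohenMacaulayRing_of_ringEquiv
    (Algebra.TensorProduct.comm A P p.ResidueField).toRingEquiv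

/-- An associated prime of a flat lci algebra over a Noetherian ring is minimal in its fibre. -/
theorem minimal_of_ass (h : LCI.IsLCI A P) (q : Ideal P) (hq : q ∈ associatedPrimes P P)
    (r : Ideal P) (hr : r.IsPrime) (hrq : r ≤ q)
    (hc : r.comap (algebraMap A P) = q.comap (algebraMap A P)) : r = q := by
  have := h.1
  have : IsNoetherianRing P := Algebra.FiniteType.isNoetherianRing A P
  have h1 := Groth.Agent.S2069.result (R := A) (S := P) (M := A) (N := P)
  have h2 : q ∈ associatedPrimes P (P ⊗[A] A) :=
    ((TensorProduct.AlgebraTensorModule.rid A P P).isAssociatedPrime_iff).2 hq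
  rw [h1, Set.mem_iUnion₂] at h2
  obtain ⟨p, hp, hqp⟩ := h2
  have := hp.isPrime
  have e : (p.map (algebraMap A P) • (⊤ : Submodule P P)) = p.map (algebraMap A P) := by
    rw [smul_eq_mul, Ideal.mul_top]
  rw [e] at hqp
  have h3 := Groth.Agent.LoccohA.FibAss.comap_eq_of_ass A P p q hqp
  have h4 := Groth.Agent.LoccohA.FibAss.mem_minimalPrimes_of_ass A P p
    (hasSk_of_isCohenMacaulayRing 1 _ (isCM_fiber A P h p)) q hqp
  refine le_antisymm hrq (h4.2 ⟨hr, ?_⟩ hrq)
  rw [Ideal.map_le_iff_le_comap, hc, h3]

omit [IsNoetherianRing A] [Algebra A P] [Module.Flat A P] [CommRing A] A in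
/-- A module which embeds in a finite flat module over a Noetherian ring and whose localizations at the
associated primes of the ring vanish is zero. -/
theorem subsingleton_of_injective [IsNoetherianRing P] (H M : Type*) [AddCommGroup H] [Module P H]
    [AddCommGroup M] [Module P M] [Module.Finite P M] [Module.Flat P M] (f : H →ₗ[P] M)
    (hf : Function.Injective f)
    (hH : ∀ q ∈ associatedPrimes P P, ∀ x : H, ∃ t : P, t ∉ q ∧ t • x = 0) : Subsingleton H := by
  refine subsingleton_of_forall_eq 0 fun x => ?_
  by_contra hx
  have : Module.FinitePresentation P M := Module.finitePresentation_of_finite P M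
  have : Module.Projective P M := Module.Flat.projective_of_finitePresentation
  have hfx : f x ≠ 0 := fun h => hx (hf (by rw [h, map_zero]))
  obtain ⟨ℓ, hℓ⟩ : ∃ ℓ : M →ₗ[P] P, ℓ (f x) ≠ 0 := by
    by_contra hcon
    push Not at hcon
    exact hfx ((Module.forall_dual_apply_eq_zero_iff P (f x)).1 hcon)
  obtain ⟨q, hq, hle⟩ := exists_le_isAssociatedPrime_of_isNoetherianRing P (ℓ (f x)) hℓ
  obtain ⟨t, ht, htx⟩ := hH q hq x
  refine ht (hle ?_)
  rw [Submodule.mem_colon_singleton, Submodule.mem_bot, ← map_smul, ← map_smul, htx, map_zero,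
    map_zero]

/-- `H_1(NL_{P/A}) = 0` for a flat lci algebra with generically smooth fibres. -/
theorem subsingleton_h1Cotangent (hlci : LCI.IsLCI A P)
    (hgs : ∀ 𝔓 : PrimeSpectrum P,
      (∀ 𝔔 : PrimeSpectrum P, 𝔔 ≤ 𝔓 →
          𝔔.asIdeal.comap (algebraMap A P) = 𝔓.asIdeal.comap (algebraMap A P) → 𝔔 = 𝔓) →
        𝔓 ∈ Algebra.smoothLocus A P) :
    Subsingleton (Algebra.H1Cotangent A P) := by
  have hFT := hlci.1
  have : IsNoetherianRing P := Algebra.FiniteType.isNoetherianRing A P
  obtain ⟨n, f, hf, hK⟩ := hlci.2
  let G : Algebra.Generators A P (Fin n) := Algebra.Generators.ofAlgHom f hf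
  have hk : G.ker = RingHom.ker f.toRingHom := Algebra.Generators.ker_ofAlgHom f hf
  have hflat : Module.Flat P G.toExtension.Cotangent := by
    rw [Groth.Agent.Models.NLIdeal.flat_cotangent_iff G.toExtension]
    have := Groth.Agent.Models.KoszulCot.flat_cotangent hK
    rw [← hk] at this
    exact this
  have hfin : Module.Finite P G.toExtension.Cotangent := by
    have : IsNoetherianRing G.toExtension.Ring := inferInstanceAs (IsNoetherianRing (MvPolynomial (Fin n) A))
    exact Algebra.Extension.Cotangent.finite ((isNoetherianRing_iff_ideal_fg _).1 this _)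
  have e : Algebra.H1Cotangent A P ≃ₗ[P] G.toExtension.H1Cotangent :=
    Algebra.Generators.H1Cotangent.equiv _ _
  refine subsingleton_of_injective P (Algebra.H1Cotangent A P) G.toExtension.Cotangent
    (Submodule.subtype _ ∘ₗ e.toLinearMap) ?_ ?_
  · exact (Submodule.subtype_injective _).comp e.injective
  · intro q hq x
    have hqp : q.IsPrime := hq.isPrime
    have h1 : (⟨q, hqp⟩ : PrimeSpectrum P) ∈ Algebra.smoothLocus A P := by
      refine hgs _ fun r hr hc => ?_
      exact PrimeSpectrum.ext (minimal_of_ass A P hlci q hq r.asIdeal r.2 hr hc)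
    rw [Algebra.smoothLocus_eq_compl_support_inter] at h1
    have h2 := h1.1
    rw [Set.mem_compl_iff, Module.notMem_support_iff'] at h2
    obtain ⟨t, ht, htx⟩ := h2 x
    exact ⟨t, ht, htx⟩

end K682.LciAss
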