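import Groth.Agent.Deform.K682.LciAss
import Groth.Agent.Deform.K682.ExtOne
import Mathlib.RingTheory.Kaehler.TensorProduct
import Mathlib.RingTheory.Spectrum.Prime.FreeLocus

/-!
# Base change of `Ext¹(Ω, O)` for flat local complete intersections with generically smooth fibres
-/

set_option autoImplicit false
universe u

open TensorProduct

namespace K682.LciBC

/-- An associated prime of `P / JP` is minimal in its fibre over `A`, for `P` flat lci over `A`. -/
theorem minimal_of_ass_quotient (A P : Type u) [CommRing A] [IsNoetherianRing A] [CommRing P]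
    [Algebra A P] [Module.Flat A P] (h : LCI.IsLCI A P) (J : Ideal A) (q : Ideal P)
    (hq : q ∈ associatedPrimes P (P ⧸ J.map (algebraMap A P)))
    (r : Ideal P) (hr : r.IsPrime) (hrq : r ≤ q)
    (hc : r.comap (algebraMap A P) = q.comap (algebraMap A P)) : r = q := by
  have := h.1
  have : IsNoetherianRing P := Algebra.FiniteType.isNoetherianRing A P
  have h1 := Groth.Agent.S2069.result (R := A) (S := P) (M := A ⧸ J) (N := P)
  have h2 : q ∈ associatedPrimes P (P ⊗[A] (A ⧸ J)) :=
    ((Algebra.TensorProduct.quotIdealMapEquivTensorQuot P J).toLinearEquiv.isAssociatedPrime_iff).1 hq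
  rw [h1, Set.mem_iUnion₂] at h2
  obtain ⟨p, hp, hqp⟩ := h2
  have := hp.isPrime
  have e : (p.map (algebraMap A P) • (⊤ : Submodule P P)) = p.map (algebraMap A P) := by
    rw [smul_eq_mul, Ideal.mul_top]
  rw [e] at hqp
  have h3 := Groth.Agent.LoccohA.FibAss.comap_eq_of_ass A P p q hqp
  have h4 := Groth.Agent.LoccohA.FibAss.mem_minimalPrimes_of_ass A P p
    (LciAss.hasSk_of_isCohenMacaulayRing 1 _ (LciAss.isCM_fiber A P h p)) q hqp
  refine le_antisymm hrq (h4.2 ⟨hr, ?_⟩ hrq)
  rw [Ideal.map_le_iff_le_comap, hc, h3]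

/-- If the cokernel of an injective map is projective at `q` then the map splits up to an element
outside `q`. -/
theorem exists_retraction {P : Type u} [CommRing P] {M F Ω : Type u} [AddCommGroup M] [AddCommGroup F]
    [AddCommGroup Ω] [Module P M] [Module P F] [Module P Ω] [Module.FinitePresentation P Ω]
    (φ : M →ₗ[P] F) (π : F →ₗ[P] Ω) (hφ : Function.Injective φ)
    (hπ : Function.Surjective π) (hex : Function.Exact φ π) (q : Ideal P) [q.IsPrime]
    (hfree : Module.Free (Localization.AtPrime q) (LocalizedModule q.primeCompl Ω)) :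
    ∃ (t : P) (_ : t ∉ q) (r : F →ₗ[P] M), ∀ m, r (φ m) = t • m := by
  let mF := LocalizedModule.mkLinearMap q.primeCompl F
  let mΩ := LocalizedModule.mkLinearMap q.primeCompl Ω
  let πq := LocalizedModule.map q.primeCompl π
  have hπq : Function.Surjective πq := LocalizedModule.map_surjective q.primeCompl π hπ
  obtain ⟨sq, hsq⟩ := Module.projective_lifting_property πq LinearMap.id hπq
  have hπq' : ∀ x, πq (mF x) = mΩ (π x) := fun x => by
    change LocalizedModule.map q.primeCompl π (LocalizedModule.mk x 1) = LocalizedModule.mk (π x) 1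
    rw [LocalizedModule.map_mk]
  obtain ⟨h, s, hs⟩ := Module.FinitePresentation.exists_lift_of_isLocalizedModule q.primeCompl mF
    ((sq.restrictScalars P) ∘ₗ mΩ)
  have h1 : mΩ ∘ₗ (π ∘ₗ h) = mΩ ∘ₗ (s • (LinearMap.id : Ω →ₗ[P] Ω)) := by
    ext x
    have h2 : mF (h x) = s • (sq (mΩ x)) := LinearMap.congr_fun hs x
    change mΩ (π (h x)) = mΩ (s • x)
    rw [← hπq', h2]
    have h3 : πq (sq (mΩ x)) = mΩ x := LinearMap.congr_fun hsq (mΩ x)
    have h4 : πq (s • (sq (mΩ x))) = s • πq (sq (mΩ x)) :=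
      (πq.restrictScalars P).map_smul (s : P) (sq (mΩ x))
    rw [h4, h3]
    exact (mΩ.map_smul (s : P) x).symm
  obtain ⟨s', hs'⟩ := Module.Finite.exists_smul_of_comp_eq_of_isLocalizedModule q.primeCompl mΩ _ _ h1
  have hs'' : ∀ x, (s' : P) • π (h x) = (s' : P) • (s : P) • x := fun x => LinearMap.congr_fun hs' x
  let t : P := s' * s
  let ψ : F →ₗ[P] F := t • LinearMap.id - ((s' : P) • h) ∘ₗ π
  have hψ : ∀ x, π (ψ x) = 0 := by
    intro x
    change π (t • x - (s' : P) • h (π x)) = 0
    rw [map_sub, map_smul, map_smul, hs'' (π x), ← mul_smul, sub_self]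
  let φe := LinearEquiv.ofInjective φ hφ
  refine ⟨t, ?_, φe.symm.toLinearMap ∘ₗ (ψ.codRestrict (LinearMap.range φ) fun x =>
    (hex _).1 (hψ x)), fun m => ?_⟩
  · exact (s' * s).2
  · rw [LinearMap.comp_apply, LinearEquiv.coe_coe, LinearEquiv.symm_apply_eq]
    apply Subtype.ext
    change t • φ m - (s' : P) • h (π (φ m)) = φ (t • m)
    rw [hex.apply_apply_eq_zero, map_zero, smul_zero, sub_zero, map_smul]

/-- The conormal sequence of a flat lci algebra with generically smooth fibres stays exact on the left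
after base change along `A → A/J`. -/
theorem injective_baseChange {P : Type u} [CommRing P] [IsNoetherianRing P] (𝔞 : Ideal P)
    {M F Ω : Type u} [AddCommGroup M] [AddCommGroup F]
    [AddCommGroup Ω] [Module P M] [Module P F] [Module P Ω] [Module.Finite P Ω]
    [Module.Finite P M] [Module.Projective P M]
    (φ : M →ₗ[P] F) (π : F →ₗ[P] Ω) (hφ : Function.Injective φ)
    (hπ : Function.Surjective π) (hex : Function.Exact φ π)
    (hass : ∀ (q : Ideal P) [q.IsPrime], q ∈ associatedPrimes P (P ⧸ 𝔞) →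
      Module.Free (Localization.AtPrime q) (LocalizedModule q.primeCompl Ω)) :
    Function.Injective (φ.baseChange (P ⧸ 𝔞)) := by
  have : Module.FinitePresentation P Ω := Module.finitePresentation_of_finite P Ω
  rw [injective_iff_map_eq_zero]
  intro x hx
  by_contra hne
  obtain ⟨ℓ, hℓ⟩ : ∃ ℓ : ((P ⧸ 𝔞) ⊗[P] M) →ₗ[P ⧸ 𝔞] (P ⧸ 𝔞), ℓ x ≠ 0 := by
    by_contra hcon
    push Not at hcon
    exact hne ((Module.forall_dual_apply_eq_zero_iff (P ⧸ 𝔞) x).1 hcon)
  obtain ⟨q, hq, hle⟩ := exists_le_isAssociatedPrime_of_isNoetherianRing P (ℓ x) hℓ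
  have hqp : q.IsPrime := hq.isPrime
  obtain ⟨t, ht, r, hr⟩ := exists_retraction φ π hφ hπ hex q (hass q hq)
  have h1 : ∀ y, r.baseChange (P ⧸ 𝔞) (φ.baseChange (P ⧸ 𝔞) y) = t • y := by
    intro y
    induction y with
    | zero => simp
    | add a b ha hb => rw [map_add, map_add, ha, hb, smul_add]
    | tmul a m =>
      rw [LinearMap.baseChange_tmul, LinearMap.baseChange_tmul, hr, TensorProduct.tmul_smul]
  have h2 : t • x = 0 := by rw [← h1, hx, map_zero]
  refine ht (hle ?_)
  rw [Submodule.mem_colon_singleton, Submodule.mem_bot]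
  have h3 : t • ℓ x = ℓ (t • x) := ((ℓ.restrictScalars P).map_smul t x).symm
  rw [h3, h2, map_zero]

/-- `Ω_{(P/JP)/A} = (P/JP) ⊗_P Ω_{P/A}`. -/
theorem mapBaseChange_bijective (A P : Type u) [CommRing A] [CommRing P]
    [Algebra A P] (J : Ideal A) :
    Function.Bijective (KaehlerDifferential.mapBaseChange A P (P ⧸ J.map (algebraMap A P))) := by
  have hsurj : Function.Surjective (algebraMap P (P ⧸ J.map (algebraMap A P))) :=
    Ideal.Quotient.mk_surjective
  refine ⟨?_, KaehlerDifferential.mapBaseChange_surjective A P _ hsurj⟩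
  rw [injective_iff_map_eq_zero]
  intro x hx
  obtain ⟨y, rfl⟩ := (KaehlerDifferential.exact_kerCotangentToTensor_mapBaseChange A P
    (P ⧸ J.map (algebraMap A P)) hsurj x).1 hx
  obtain ⟨⟨y, hy⟩, rfl⟩ := Ideal.toCotangent_surjective _ y
  rw [KaehlerDifferential.kerCotangentToTensor_toCotangent]
  have hy' : y ∈ J.map (algebraMap A P) := Ideal.Quotient.eq_zero_iff_mem.1 hy
  change (1 : P ⧸ J.map (algebraMap A P)) ⊗ₜ[P] KaehlerDifferential.D A P y = 0
  have hz : ∀ a ∈ J.map (algebraMap A P), a • (1 : P ⧸ J.map (algebraMap A P)) = 0 := by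
    intro a ha
    rw [Algebra.smul_def, mul_one]
    exact Ideal.Quotient.eq_zero_iff_mem.2 ha
  refine Submodule.span_induction (p := fun y _ => (1 : P ⧸ J.map (algebraMap A P)) ⊗ₜ[P]
    KaehlerDifferential.D A P y = 0) ?_ ?_ ?_ ?_ hy'
  · rintro _ ⟨a, ha, rfl⟩
    rw [(KaehlerDifferential.D A P).map_algebraMap, TensorProduct.tmul_zero]
  · rw [map_zero, TensorProduct.tmul_zero]
  · intro x y _ _ hx hy
    rw [map_add, TensorProduct.tmul_add, hx, hy, add_zero]
  · intro a x hx h
    rw [smul_eq_mul, Derivation.leibniz, TensorProduct.tmul_add, TensorProduct.tmul_smul, h,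
      smul_zero, zero_add, TensorProduct.tmul_smul, TensorProduct.smul_tmul', hz x hx,
      TensorProduct.zero_tmul]

end K682.LciBC
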