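import Groth.Agent.Deform.K682.QuotRet
import Groth.Agent.Deform.K682.ExtKill
import Groth.Agent.EGA2.K31.QAffHom
import Groth.Agent.Fga.QTSub
import Groth.Agent.S1391
import Groth.Agent.S0485
import Groth.Agent.Krr.H466.ClosedLF
import Groth.Agent.PerfA.QCohExt

/-!
# Lifting flat modules along a small extension inside a trivial deformation

`exists_lift_module`: `i : X ⟶ Z` with retraction `ρ : Z ⟶ X`, `B → A → k`, `Z_A ⊆ Z` the base change to `A`, `𝓔` quasi-coherent and
`A`-flat on `Z_A`. If `Ext²(Q, Q) = 0` for the restriction `Q` of `𝓔` to `X`, then `𝓔` lifts to a quasi-coherent `B`-flat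
module on `Z`.
-/

set_option autoImplicit false

universe u v w

open CategoryTheory CategoryTheory.Limits AlgebraicGeometry Opposite

namespace K682.ModLift

open Groth.Agent.Fga.QTDefs K723.QuotFib K723.AbSplit K723.QuotExt K723.QuotStep Groth.Agent.Fga.SubPull
open K682.QuotRet

section Abelian

variable {C : Type u} [Category.{v} C] [Abelian C]

theorem exact_kernelSubobject {M N : C} (f : M ⟶ N) :
    (ShortComplex.mk (kernelSubobject f).arrow f (kernelSubobject_arrow_comp f)).Exact := by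
  let φ : ShortComplex.mk (kernelSubobject f).arrow f (kernelSubobject_arrow_comp f) ⟶
      ShortComplex.mk (kernel.ι f) f (kernel.condition f) :=
    { τ₁ := (kernelSubobjectIso f).hom
      τ₂ := 𝟙 M
      τ₃ := 𝟙 N
      comm₁₂ := by simp
      comm₂₃ := by simp }
  have e1 : Epi φ.τ₁ := inferInstanceAs (Epi (kernelSubobjectIso f).hom)
  have e2 : IsIso φ.τ₂ := inferInstanceAs (IsIso (𝟙 M))
  have e3 : Mono φ.τ₃ := inferInstanceAs (Mono (𝟙 N))
  exact (ShortComplex.exact_iff_of_epi_of_isIso_of_mono φ).2 (ShortComplex.exact_kernel f)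

theorem isIso_desc {M N L : C} (α : M ⟶ N) (g : N ⟶ L) (w : α ≫ g = 0)
    (h : (ShortComplex.mk α g w).Exact) [Epi g] : IsIso (cokernel.desc α g w) := by
  have m2 : Mono (cokernel.desc α g w) := (ShortComplex.mk α g w).exact_iff_mono_cokernel_desc.1 h
  have m3 : Epi (cokernel.desc α g w) := epi_of_epi_fac (cokernel.π_desc α g w)
  exact isIso_of_mono_of_epi _

end Abelian

section Step

variable {B A C : Type u} [CommRing B] [CommRing A] [CommRing C] {p : B →+* A} {π : B →+* C}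
  {Z ZA X : Scheme.{u}} {a : ZA ⟶ Z} {i : X ⟶ Z}
  {q : Z ⟶ Spec (CommRingCat.of B)} {qA : ZA ⟶ Spec (CommRingCat.of A)} {x : X ⟶ Spec (CommRingCat.of C)}
  (hpA : IsPullback a qA q (Spec.map (CommRingCat.ofHom p)))
  (hpb : IsPullback i x q (Spec.map (CommRingCat.ofHom π)))
  (hp : Function.Surjective p) (hπ : Function.Surjective π)
  {t : B} (ht : RingHom.ker p = Ideal.span {t}) (hm : ∀ b, b * t = 0 ↔ π b = 0)
  {ι : Type v} (V : ι → Z.Opens) (hV : ∀ j, IsAffineOpen (V j)) (hc : ⨆ j, V j = ⊤)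
  {F : Z.Modules} (hF : Coh.IsQCoh F) (hfl : FlatMod.IsFlatOver q F)
  (hflA : FlatMod.IsFlatOver qA ((Scheme.Modules.pullback a).obj F))
  {𝓔 : ZA.Modules} (h𝓔 : Coh.IsQCoh 𝓔) (h𝓔fl : FlatMod.IsFlatOver qA 𝓔)
  (f : F ⟶ (Scheme.Modules.pushforward a).obj 𝓔)

/-- The adjoint map. -/
noncomputable def fA (f : F ⟶ (Scheme.Modules.pushforward a).obj 𝓔) : (Scheme.Modules.pullback a).obj F ⟶ 𝓔 :=
  ((Scheme.Modules.pullbackPushforwardAdjunction a).homEquiv F 𝓔).symm f

theorem epi_fA [IsClosedImmersion a] [Epi f] : Epi (fA f) := by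
  have h := Groth.Agent.Krr.H466.ClosedLF.isIso_counit a
  have h1 : IsIso ((Scheme.Modules.pullbackPushforwardAdjunction a).counit.app 𝓔) := inferInstance
  have h2 : Epi ((Scheme.Modules.pullback a).map f) := inferInstance
  rw [fA, Adjunction.homEquiv_counit]
  exact epi_comp _ _

theorem mem_secSub_kernel (U : Z.Opens) (s : Γ(F, U)) : s ∈ secSub (kernelSubobject f) U ↔
    ps a (Iso.refl ((Scheme.Modules.pullback a).obj F)) U s ∈ secSub (kernelSubobject (fA f)) (a ⁻¹ᵁ U) := by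
  rw [mem_kernel_iff, mem_kernel_iff]
  have h1 := homEquiv_app a (fA f) U s
  have h2 : (Scheme.Modules.pullbackPushforwardAdjunction a).homEquiv F 𝓔 (fA f) = f := Equiv.apply_symm_apply _ _
  rw [h2] at h1
  have h3 : ps a (Iso.refl ((Scheme.Modules.pullback a).obj F)) U s = pb a F U s := rfl
  rw [h3]
  exact Eq.congr_left h1

theorem nonempty_coker_iso [Epi f] :
    Nonempty (cokernel (kernelSubobject f).arrow ≅ (Scheme.Modules.pushforward a).obj 𝓔) := by
  have := isIso_desc _ f (kernelSubobject_arrow_comp f) (exact_kernelSubobject f)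
  exact ⟨asIso (cokernel.desc _ f (kernelSubobject_arrow_comp f))⟩

theorem nonempty_coker_iso' [IsClosedImmersion a] [Epi f] :
    Nonempty (cokernel (kernelSubobject (fA f)).arrow ≅ 𝓔) := by
  have := epi_fA f
  have := isIso_desc _ (fA f) (kernelSubobject_arrow_comp (fA f)) (exact_kernelSubobject (fA f))
  exact ⟨asIso (cokernel.desc _ (fA f) (kernelSubobject_arrow_comp (fA f)))⟩

include h𝓔 in
theorem isQCoh_coker [IsClosedImmersion a] [Epi f] : Coh.IsQCoh (cokernel (kernelSubobject f).arrow) := by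
  obtain ⟨e⟩ := nonempty_coker_iso f
  exact Groth.Agent.PerfA.QCohSerre.isQCoh_of_iso e.symm (Groth.Agent.Ega1.QcqsPush.isQCoh_pushforward a _ h𝓔)

include h𝓔 in
theorem isQCoh_coker' [IsClosedImmersion a] [Epi f] : Coh.IsQCoh (cokernel (kernelSubobject (fA f)).arrow) := by
  obtain ⟨e⟩ := nonempty_coker_iso' f
  exact Groth.Agent.PerfA.QCohSerre.isQCoh_of_iso e.symm h𝓔

include hpA hp ht hm hV hc hF hfl hflA h𝓔 h𝓔fl in
theorem sat_f [Epi f] : Sat π q V t (kernelSubobject f) := by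
  have hca : IsClosedImmersion a := isClosedImmersion_of_isPullback hpA hp
  have hFA : Coh.IsQCoh ((Scheme.Modules.pullback a).obj F) := by
    have : F.IsQuasicoherent := hF
    exact Groth.Agent.CohqA.PullbackQCoh.isQuasicoherent_pullback a F
  obtain ⟨e⟩ := nonempty_coker_iso' f
  exact sat_of_pre (φ := Iso.refl _) hpA hp ht hm hF hFA V hV hc hfl hflA (isQCoh_coker' h𝓔 f)
    (Groth.Agent.Fga.QTSub.isFlatOver_of_iso qA e.symm h𝓔fl) (mem_secSub_kernel f)

/-- Pull-back of a right exact sequence. -/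
theorem exact_pull {Y : Scheme.{u}} (h : Y ⟶ Z) {M N L : Z.Modules} (α : M ⟶ N) (g : N ⟶ L) (w : α ≫ g = 0)
    (hex : (ShortComplex.mk α g w).Exact) [Epi g] :
    ∃ w' : (Scheme.Modules.pullback h).map α ≫ (Scheme.Modules.pullback h).map g = 0,
      (ShortComplex.mk _ _ w').Exact := by
  have w' : (Scheme.Modules.pullback h).map α ≫ (Scheme.Modules.pullback h).map g = 0 := by
    rw [← Functor.map_comp, w, Functor.map_zero]
  exact ⟨w', hex.map_of_epi_of_preservesCokernel (Scheme.Modules.pullback h) ‹Epi g› inferInstance⟩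

include hpA hpb hp hπ ht hm hV hc hF hfl hflA h𝓔 h𝓔fl in
theorem exists_of_retraction [Epi f] [(RingHom.ker π).IsMaximal] (hnil : IsNilpotent (RingHom.ker π))
    (htπ : π t = 0) (τ : F ⟶ Subobject.underlying.obj (kernelSubobject f))
    (hτ : τ ≫ (kernelSubobject f).arrow = mulT q t F)
    (r : (Scheme.Modules.pullback i).obj (Subobject.underlying.obj (kernelSubobject f)) ⟶
      (Scheme.Modules.pullback i).obj ((Scheme.Modules.pushforward a).obj 𝓔))
    (hr : (Scheme.Modules.pullback i).map τ ≫ r = (Scheme.Modules.pullback i).map f) :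
    ∃ 𝓔' : Z.Modules, Coh.IsQCoh 𝓔' ∧ FlatMod.IsFlatOver q 𝓔' ∧
      Nonempty ((Scheme.Modules.pullback a).obj 𝓔' ≅ 𝓔) := by
  have hca : IsClosedImmersion a := isClosedImmersion_of_isPullback hpA hp
  have hFA : Coh.IsQCoh ((Scheme.Modules.pullback a).obj F) := by
    have : F.IsQuasicoherent := hF
    exact Groth.Agent.CohqA.PullbackQCoh.isQuasicoherent_pullback a F
  obtain ⟨e⟩ := nonempty_coker_iso' f
  obtain ⟨w', hex⟩ := exact_pull i _ f (kernelSubobject_arrow_comp f) (exact_kernelSubobject f)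
  have hepi : Epi ((Scheme.Modules.pullback i).map f) := inferInstance
  have hθ := isIso_desc _ _ w' hex
  obtain ⟨K', hq, hfl', hK'⟩ := exists_lift_of_retraction (φ := Iso.refl _) hpA hpb hp hπ ht hm hF hFA V hV hc hfl hflA
    (isQCoh_coker' h𝓔 f) (Groth.Agent.Fga.QTSub.isFlatOver_of_iso qA e.symm h𝓔fl) (mem_secSub_kernel f) hnil htπ
    (isQCoh_coker h𝓔 f) τ hτ (r ≫ inv (cokernel.desc _ _ w')) (by
      rw [← Category.assoc, hr, IsIso.comp_inv_eq, cokernel.π_desc])
  refine ⟨_, hq, hfl', ?_⟩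
  obtain ⟨e1, -⟩ := exists_cokernel_subPull a (Iso.refl ((Scheme.Modules.pullback a).obj F)) K'
  rw [hK'] at e1
  exact ⟨e1.symm ≪≫ e⟩

end Step

section Main

variable {B A C : Type u} [CommRing B] [CommRing A] [CommRing C] {p : B →+* A} {π : B →+* C}
  {Z ZA X : Scheme.{u}} {a : ZA ⟶ Z} {i : X ⟶ Z} {ρ : Z ⟶ X}
  {q : Z ⟶ Spec (CommRingCat.of B)} {qA : ZA ⟶ Spec (CommRingCat.of A)} {x : X ⟶ Spec (CommRingCat.of C)}

/-- `i^* ρ^* M ≅ M`. -/
noncomputable def cN (hρ : i ≫ ρ = 𝟙 X) : Scheme.Modules.pullback ρ ⋙ Scheme.Modules.pullback i ≅ 𝟭 _ :=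
  Scheme.Modules.pullbackComp i ρ ≪≫ Scheme.Modules.pullbackCongr hρ ≪≫ Scheme.Modules.pullbackId X

/-- **Lifting of flat modules.** -/
theorem exists_lift_module [HasExt.{w} X.Modules] (hρ : i ≫ ρ = 𝟙 X) [IsAffineHom ρ]
    (hpA : IsPullback a qA q (Spec.map (CommRingCat.ofHom p)))
    (hpb : IsPullback i x q (Spec.map (CommRingCat.ofHom π)))
    (hp : Function.Surjective p) (hπ : Function.Surjective π) [(RingHom.ker π).IsMaximal]
    (hnil : IsNilpotent (RingHom.ker π))
    {t : B} (ht : RingHom.ker p = Ideal.span {t}) (htπ : π t = 0) (hm : ∀ b, b * t = 0 ↔ π b = 0)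
    (hfl : ∀ M : X.Modules, Coh.IsQCoh M → FlatMod.IsFlatOver q ((Scheme.Modules.pullback ρ).obj M))
    {𝓔 : ZA.Modules} (h𝓔 : Coh.IsQCoh 𝓔) (h𝓔fl : FlatMod.IsFlatOver qA 𝓔)
    (hExt : Subsingleton (Abelian.Ext.{w} ((Scheme.Modules.pullback i).obj ((Scheme.Modules.pushforward a).obj 𝓔))
      ((Scheme.Modules.pullback i).obj ((Scheme.Modules.pushforward a).obj 𝓔)) 2)) :
    ∃ 𝓔' : Z.Modules, Coh.IsQCoh 𝓔' ∧ FlatMod.IsFlatOver q 𝓔' ∧
      Nonempty ((Scheme.Modules.pullback a).obj 𝓔' ≅ 𝓔) := by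
  classical
  have hca : IsClosedImmersion a := isClosedImmersion_of_isPullback hpA hp
  have hci : IsClosedImmersion i := isClosedImmersion_of_isPullback hpb hπ
  let V : Z.affineOpens → Z.Opens := fun U => U.1
  have hV : ∀ j, IsAffineOpen (V j) := fun j => j.2
  have hc : ⨆ j, V j = ⊤ := iSup_affineOpens_eq_top Z
  have hN : Coh.IsQCoh ((Scheme.Modules.pushforward a).obj 𝓔) := Groth.Agent.Ega1.QcqsPush.isQCoh_pushforward a _ h𝓔
  let P : X.Modules := (Scheme.Modules.pushforward ρ).obj ((Scheme.Modules.pushforward a).obj 𝓔)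
  have hP : Coh.IsQCoh P := Groth.Agent.Ega1.QcqsPush.isQCoh_pushforward ρ _ hN
  let adjρ := Scheme.Modules.pullbackPushforwardAdjunction ρ
  let ε : (Scheme.Modules.pullback ρ).obj P ⟶ (Scheme.Modules.pushforward a).obj 𝓔 := adjρ.counit.app _
  have hε : Epi ε := by
    refine K31.QAffHom.epi_counit ρ ⟨inferInstance, fun U hU => ?_⟩ _ hN
    have : IsAffine (ρ ⁻¹ᵁ U : Scheme.{u}) := hU.preimage ρ
    infer_instance
  have hFq : ∀ M : X.Modules, Coh.IsQCoh M → Coh.IsQCoh ((Scheme.Modules.pullback ρ).obj M) := fun M hM => by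
    have : M.IsQuasicoherent := hM
    exact Groth.Agent.CohqA.PullbackQCoh.isQuasicoherent_pullback ρ M
  have hflA : ∀ M : X.Modules, Coh.IsQCoh M → FlatMod.IsFlatOver qA
      ((Scheme.Modules.pullback a).obj ((Scheme.Modules.pullback ρ).obj M)) := fun M hM y =>
    Groth.Agent.S1391.result q qA a _ hpA _ (hFq M hM) y (hfl M hM _)
  -- the data for `P`
  have hsat := sat_f hpA hp ht hm V hV hc (hFq P hP) (hfl P hP) (hflA P hP) h𝓔 h𝓔fl ε
  obtain ⟨τ, hτ⟩ := exists_tau (hFq P hP) V hV hc t (kernelSubobject ε) hsat.h1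
  obtain ⟨w1, w2, ex1, ex2⟩ := exact_pair (hFq P hP) V hV hc hpb hπ htπ (isQCoh_coker h𝓔 ε) hsat τ hτ
  obtain ⟨wπ, exπ⟩ := exact_pull i _ ε (kernelSubobject_arrow_comp ε) (exact_kernelSubobject ε)
  have hepi : Epi ((Scheme.Modules.pullback i).map ε) := inferInstance
  have hinj : EnoughInjectives X.Modules := Groth.Agent.S0485.result _ X.ringCatSheaf
  obtain ⟨H, v, κ, m, wv, hSE, hmv, hβm⟩ := K682.ExtKill.exists_cover _ _ _ wπ exπ w1 w2 ex1 ex2 hExt
  have hQ : Coh.IsQCoh ((Scheme.Modules.pullback i).obj ((Scheme.Modules.pushforward a).obj 𝓔)) := by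
    have : ((Scheme.Modules.pushforward a).obj 𝓔).IsQuasicoherent := hN
    exact Groth.Agent.CohqA.PullbackQCoh.isQuasicoherent_pullback i _
  have hP' : Coh.IsQCoh ((Scheme.Modules.pullback i).obj ((Scheme.Modules.pullback ρ).obj P)) := by
    have : ((Scheme.Modules.pullback ρ).obj P).IsQuasicoherent := hFq P hP
    exact Groth.Agent.CohqA.PullbackQCoh.isQuasicoherent_pullback i _
  have hH : Coh.IsQCoh H := Groth.Agent.PerfA.QCohExt.isQCoh_ext hSE hQ hP'
  have hvm : Epi v := hSE.epi_g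
  have hκm : Mono κ := hSE.mono_f
  let cP : (Scheme.Modules.pullback i).obj ((Scheme.Modules.pullback ρ).obj P) ≅ P := (cN hρ).app P
  let cH : (Scheme.Modules.pullback i).obj ((Scheme.Modules.pullback ρ).obj H) ≅ H := (cN hρ).app H
  let u : (Scheme.Modules.pullback ρ).obj H ⟶ (Scheme.Modules.pullback ρ).obj P :=
    (Scheme.Modules.pullback ρ).map (v ≫ cP.hom)
  have hu : Epi u := by
    have : Epi (v ≫ cP.hom) := epi_comp _ _
    exact inferInstanceAs (Epi ((Scheme.Modules.pullback ρ).map (v ≫ cP.hom)))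
  have hcu : cH.hom ≫ v = (Scheme.Modules.pullback i).map u := by
    have h1 : (Scheme.Modules.pullback i).map u ≫ cP.hom = cH.hom ≫ (v ≫ cP.hom) :=
      (cN hρ).hom.naturality (v ≫ cP.hom)
    rw [← cancel_mono cP.hom, h1, Category.assoc]
  have hf1 : Epi (u ≫ ε) := epi_comp _ _
  have hsat1 := sat_f hpA hp ht hm V hV hc (hFq H hH) (hfl H hH) (hflA H hH) h𝓔 h𝓔fl (u ≫ ε)
  obtain ⟨τ₁, hτ₁⟩ := exists_tau (hFq H hH) V hV hc t (kernelSubobject (u ≫ ε)) hsat1.h1
  let μ : Subobject.underlying.obj (kernelSubobject (u ≫ ε)) ⟶ Subobject.underlying.obj (kernelSubobject ε) :=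
    factorThruKernelSubobject ε ((kernelSubobject (u ≫ ε)).arrow ≫ u) (by
      rw [Category.assoc]
      exact kernelSubobject_arrow_comp (u ≫ ε))
  have hμ : μ ≫ (kernelSubobject ε).arrow = (kernelSubobject (u ≫ ε)).arrow ≫ u :=
    factorThruKernelSubobject_comp_arrow _ _ _
  have hμτ : τ₁ ≫ μ = u ≫ τ := by
    rw [← cancel_mono (kernelSubobject ε).arrow, Category.assoc, hμ, ← Category.assoc, hτ₁, Category.assoc, hτ,
      comp_mulT]
  let D : (Scheme.Modules.pullback i).obj (Subobject.underlying.obj (kernelSubobject (u ≫ ε))) ⟶ H :=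
    (Scheme.Modules.pullback i).map μ ≫ m - (Scheme.Modules.pullback i).map (kernelSubobject (u ≫ ε)).arrow ≫ cH.hom
  have hD : D ≫ v = 0 := by
    rw [Preadditive.sub_comp, Category.assoc, Category.assoc, hmv, hcu, ← Functor.map_comp, ← Functor.map_comp, hμ,
      sub_self]
  have hd : hSE.exact.lift D hD ≫ κ = D := hSE.exact.lift_f D hD
  refine exists_of_retraction hpA hpb hp hπ ht hm V hV hc (hFq H hH) (hfl H hH) (hflA H hH) h𝓔 h𝓔fl (u ≫ ε) hnil htπ
    τ₁ hτ₁ (hSE.exact.lift D hD) ?_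
  rw [← cancel_mono κ, Category.assoc, hd, Preadditive.comp_sub, ← Category.assoc, ← Functor.map_comp, hμτ,
    ← Category.assoc ((Scheme.Modules.pullback i).map τ₁), ← Functor.map_comp, hτ₁, pull_mulT hpb t htπ, zero_comp,
    sub_zero, Functor.map_comp, Category.assoc, hβm, Functor.map_comp, Category.assoc]

end Main

end K682.ModLift
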