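import Groth.Agent.CurvesC.NodalAlg
import Groth.Agent.CalgB.CohenPres
import Groth.Agent.Ega41.MvPS
import Mathlib.RingTheory.MvPowerSeries.Derivative
import Mathlib.Algebra.TrivSqZeroExt.Basic

/-!
# Algebra maps from power series rings into square-zero extensions of Artinian rings
-/

set_option autoImplicit false

namespace K682.PowLift

open MvPowerSeries IsLocalRing

/-- Modules over a ring with `I ^ n = ⊥` are `I`-adically complete. -/
theorem isAdicComplete_of_pow_eq_bot {A : Type*} [CommRing A] (I : Ideal A) (n : ℕ) (h : I ^ n = ⊥)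
    (M : Type*) [AddCommGroup M] [Module A M] : IsAdicComplete I M where
  haus' := by
    intro x hx
    have := hx n
    rw [h, Submodule.bot_smul, SModEq.bot] at this
    exact this
  prec' := by
    intro f hf
    refine ⟨f n, fun m => ?_⟩
    rcases le_total m n with hmn | hmn
    · exact hf hmn
    · have h1 := hf hmn
      rw [h, Submodule.bot_smul, SModEq.bot] at h1
      rw [← h1]

/-- Two algebra maps from a power series ring in finitely many variables which agree on the variables and send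
them into a nilpotent ideal are equal. -/
theorem algHom_ext {k σ B : Type*} [Field k] [Finite σ] [CommRing B] [Algebra k B] (J : Ideal B) (N : ℕ)
    (hJ : J ^ N = ⊥) (φ ψ : MvPowerSeries σ k →ₐ[k] B) (h1 : ∀ i, φ (X i) ∈ J)
    (h : ∀ i, φ (X i) = ψ (X i)) : φ = ψ := by
  have hpoly : ∀ p : MvPolynomial σ k, φ (p : MvPowerSeries σ k) = ψ (p : MvPowerSeries σ k) := by
    intro p
    have : (φ.comp (MvPolynomial.coeToMvPowerSeries.algHom k)) =
        (ψ.comp (MvPolynomial.coeToMvPowerSeries.algHom k)) := by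
      apply MvPolynomial.algHom_ext
      intro i
      simpa using h i
    simpa using DFunLike.congr_fun this p
  have hker : ∀ (χ : MvPowerSeries σ k →ₐ[k] B), (∀ i, χ (X i) ∈ J) →
      ∀ f ∈ Groth.Agent.Ega41.MvPS.varIdeal σ k ^ N, χ f = 0 := by
    intro χ hχ f hf
    have h2 : (Groth.Agent.Ega41.MvPS.varIdeal σ k).map (χ : MvPowerSeries σ k →+* B) ≤ J := by
      rw [Groth.Agent.Ega41.MvPS.varIdeal, Ideal.map_span, Ideal.span_le]
      rintro _ ⟨_, ⟨i, rfl⟩, rfl⟩
      exact hχ i
    have h3 : χ f ∈ J ^ N := by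
      refine Ideal.pow_right_mono h2 N ?_
      rw [← Ideal.map_pow]
      exact Ideal.mem_map_of_mem (χ : MvPowerSeries σ k →+* B) hf
    rw [hJ, Ideal.mem_bot] at h3
    exact h3
  ext f
  have h4 := Groth.Agent.Ega41.MvPS.sub_truncTotal_mem (R := k) N f
  have e1 := hker φ h1 _ h4
  have e2 := hker ψ (fun i => by rw [← h]; exact h1 i) _ h4
  rw [map_sub, sub_eq_zero] at e1 e2
  rw [e1, e2, hpoly]

section Mk

variable {k S A M : Type*} [Field k] [CommRing S] [Algebra k S] [CommRing A] [Algebra k A]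
  [AddCommGroup M] [Module A M] [Module Aᵐᵒᵖ M] [IsCentralScalar A M] [Module k M]
  [IsScalarTower k A M] [IsScalarTower k Aᵐᵒᵖ M]

/-- An algebra map and a derivation over it give an algebra map into the trivial square-zero extension. -/
noncomputable def mkHom (φ₀ : S →ₐ[k] A) (δ : S →ₗ[k] M)
    (h : ∀ f g, δ (f * g) = φ₀ f • δ g + φ₀ g • δ f) : S →ₐ[k] TrivSqZeroExt A M :=
  AlgHom.ofLinearMap
    { toFun := fun s => TrivSqZeroExt.inl (φ₀ s) + TrivSqZeroExt.inr (δ s)
      map_add' := fun a b => by ext <;> simp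
      map_smul' := fun r a => by ext <;> simp }
    (by
      have h1 : δ 1 = 0 := by
        have := h 1 1
        rw [mul_one, map_one φ₀, one_smul] at this
        simpa using this
      ext <;> simp [h1])
    (fun a b => by
      ext
      · simp
      · simp [h, op_smul_eq_smul])

@[simp] theorem mkHom_fst (φ₀ : S →ₐ[k] A) (δ : S →ₗ[k] M)
    (h : ∀ f g, δ (f * g) = φ₀ f • δ g + φ₀ g • δ f) (s : S) : (mkHom φ₀ δ h s).fst = φ₀ s := by
  change (TrivSqZeroExt.inl (φ₀ s) + TrivSqZeroExt.inr (δ s) : TrivSqZeroExt A M).fst = _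
  simp

@[simp] theorem mkHom_snd (φ₀ : S →ₐ[k] A) (δ : S →ₗ[k] M)
    (h : ∀ f g, δ (f * g) = φ₀ f • δ g + φ₀ g • δ f) (s : S) : (mkHom φ₀ δ h s).snd = δ s := by
  change (TrivSqZeroExt.inl (φ₀ s) + TrivSqZeroExt.inr (δ s) : TrivSqZeroExt A M).snd = _
  simp

/-- The ideal of elements of a trivial square-zero extension whose first component is in `I`. -/
noncomputable def idl (M : Type*) [AddCommGroup M] [Module A M] [Module Aᵐᵒᵖ M] [IsCentralScalar A M]
    (I : Ideal A) : Ideal (TrivSqZeroExt A M) :=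
  I.comap (TrivSqZeroExt.fstHom A A M).toRingHom

omit [Algebra k A] in
theorem idl_pow (I : Ideal A) (N : ℕ) (hI : I ^ N = ⊥) : (idl M I) ^ (N * 2) = ⊥ := by
  rw [eq_bot_iff, pow_mul]
  have h1 : (idl M I) ^ N ≤ RingHom.ker (TrivSqZeroExt.fstHom A A M).toRingHom := by
    rw [RingHom.ker_eq_comap_bot, ← hI]
    exact Ideal.le_comap_pow _ _
  refine (Ideal.pow_right_mono h1 2).trans ?_
  rw [pow_two, Ideal.mul_le]
  intro a ha b hb
  have ha' : a.fst = 0 := ha
  have hb' : b.fst = 0 := hb
  rw [Ideal.mem_bot]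
  ext
  · simp [ha']
  · simp [ha', hb']

end Mk

end K682.PowLift
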