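import Groth.Agent.ArtFun.K723.QuotStep

/-!
# Lifting flat quotients along a small extension from a retraction

Variant of `K723.QuotExt.exists_sub` and `K723.QuotStep.exists_lift` (same proofs): the hypothesis that all extensions
split is replaced by a retraction on the closed fibre.
-/

set_option autoImplicit false

universe u v

open CategoryTheory CategoryTheory.Limits AlgebraicGeometry Opposite

namespace K682.QuotRet

open Groth.Agent.Fga.QTDefs K723.QuotFib K723.AbSplit K723.QuotExt K723.QuotStep Groth.Agent.Fga.SubPull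

section Ext

variable {B C : Type u} [CommRing B] [CommRing C] {π : B →+* C}
  {Z Z₀ : Scheme.{u}} {i : Z₀ ⟶ Z} {q : Z ⟶ Spec (CommRingCat.of B)} {q₀ : Z₀ ⟶ Spec (CommRingCat.of C)}

variable {F : Z.Modules} (hF : Coh.IsQCoh F) {ι : Type v} (V : ι → Z.Opens) (hV : ∀ j, IsAffineOpen (V j))
  (hc : ⨆ j, V j = ⊤) {t : B} {E : Subobject F}

include hF hV hc in
/-- The two exact sequences on the closed fibre. -/
theorem exact_pair (hpb : IsPullback i q₀ q (Spec.map (CommRingCat.ofHom π))) (hπ : Function.Surjective π)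
    (ht : π t = 0) (hE : Coh.IsQCoh (cokernel E.arrow)) (H : Sat π q V t E) (τ : F ⟶ Subobject.underlying.obj E)
    (hτ : τ ≫ E.arrow = mulT q t F) :
    ∃ (w1 : (Scheme.Modules.pullback i).map E.arrow ≫ (Scheme.Modules.pullback i).map τ = 0)
      (w2 : (Scheme.Modules.pullback i).map τ ≫ (Scheme.Modules.pullback i).map E.arrow = 0),
      (ShortComplex.mk _ _ w1).Exact ∧ (ShortComplex.mk _ _ w2).Exact := by
  have hi : IsClosedImmersion i := isClosedImmersion_of_isPullback hpb hπ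
  have hEq := isQCoh_underlying hF hE
  have hV' : ∀ j, IsAffineOpen (i ⁻¹ᵁ V j) := fun j => (hV j).preimage i
  have hc' : ⨆ j, i ⁻¹ᵁ V j = ⊤ := by
    rw [← Scheme.Hom.preimage_iSup, hc]
    rfl
  have hF₀ : Coh.IsQCoh ((Scheme.Modules.pullback i).obj F) := by
    have : F.IsQuasicoherent := hF
    exact Groth.Agent.CohqA.PullbackQCoh.isQuasicoherent_pullback i F
  have hE₀ : Coh.IsQCoh ((Scheme.Modules.pullback i).obj (Subobject.underlying.obj E)) := by
    have : (Subobject.underlying.obj E : Z.Modules).IsQuasicoherent := hEq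
    exact Groth.Agent.CohqA.PullbackQCoh.isQuasicoherent_pullback i _
  have hτ' : E.arrow ≫ τ = mulT q t (Subobject.underlying.obj E) := by
    rw [← cancel_mono E.arrow, Category.assoc, hτ, comp_mulT]
  have w1 : (Scheme.Modules.pullback i).map E.arrow ≫ (Scheme.Modules.pullback i).map τ = 0 := by
    rw [← Functor.map_comp, hτ', pull_mulT hpb t ht]
  have w2 : (Scheme.Modules.pullback i).map τ ≫ (Scheme.Modules.pullback i).map E.arrow = 0 := by
    rw [← Functor.map_comp, hτ, pull_mulT hpb t ht]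
  have hτs : ∀ (U : Z.Opens) (x : Γ(F, U)), E.arrow.app U (τ.app U x) = coeff q U t • x := by
    intro U x
    rw [← mulT_app, ← hτ, Scheme.Modules.Hom.comp_app]
    rfl
  refine ⟨w1, w2, ?_, ?_⟩
  · -- exactness at `i^* F`
    refine exact_of_sections (fun j => i ⁻¹ᵁ V j) hV' hc' _ hE₀ hF₀ hE₀ fun j s hs => ?_
    obtain ⟨x, rfl⟩ := pb_surjective i hF (hV j) s
    have h4 : pb i _ (V j) (τ.app (V j) x) = 0 := by
      rw [← pb_naturality]
      exact hs
    rw [pb_eq_zero_iff i hEq (hV j), ker_app hpb hπ (hV j)] at h4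
    have h5 : coeff q (V j) t • x ∈ (RingHom.ker π).map (coeff q (V j)) • secSub E (V j) :=
      (mem_smul_secSub _ _).2 ⟨_, h4, hτs _ _⟩
    obtain ⟨n, ⟨e, rfl⟩, hn⟩ := H.h3 j x h5
    refine ⟨pb i _ (V j) e, ?_⟩
    change ((Scheme.Modules.pullback i).map E.arrow).app (i ⁻¹ᵁ V j) (pb i _ (V j) e) = _
    rw [pb_naturality]
    rw [← ker_app hpb hπ (hV j), ← pb_eq_zero_iff i hF (hV j), map_sub, sub_eq_zero] at hn
    exact hn.symm
  · -- exactness at `i^* E`
    refine exact_of_sections (fun j => i ⁻¹ᵁ V j) hV' hc' _ hF₀ hE₀ hF₀ fun j s hs => ?_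
    obtain ⟨y, rfl⟩ := pb_surjective i hEq (hV j) s
    have h4 : pb i F (V j) (E.arrow.app (V j) y) = 0 := by
      rw [← pb_naturality]
      exact hs
    rw [pb_eq_zero_iff i hF (hV j), ker_app hpb hπ (hV j)] at h4
    obtain ⟨n, hn, x, hx⟩ := H.h2 j _ ⟨y, rfl⟩ h4
    obtain ⟨e, he, rfl⟩ := (mem_smul_secSub _ _).1 hn
    have h5 : y = e + τ.app (V j) x := by
      apply app_injective_of_mono E.arrow (V j)
      rw [map_add, hτs, hx]
    refine ⟨pb i F (V j) x, ?_⟩
    change ((Scheme.Modules.pullback i).map τ).app (i ⁻¹ᵁ V j) (pb i _ (V j) x) = _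
    rw [pb_naturality, h5, map_add]
    rw [← ker_app hpb hπ (hV j), ← pb_eq_zero_iff i hEq (hV j)] at he
    rw [he, zero_add]

include hF hV hc in
/-- **Lifting**, from a retraction on the closed fibre. -/
theorem exists_sub_of_retraction (hpb : IsPullback i q₀ q (Spec.map (CommRingCat.ofHom π))) (hπ : Function.Surjective π)
    [(RingHom.ker π).IsMaximal] (hnil : IsNilpotent (RingHom.ker π)) (ht : π t = 0)
    (hm : ∀ b, b * t = 0 ↔ π b = 0) (hfl : FlatMod.IsFlatOver q F)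
    (hE : Coh.IsQCoh (cokernel E.arrow)) (H : Sat π q V t E)
    (τ : F ⟶ Subobject.underlying.obj E) (hτ : τ ≫ E.arrow = mulT q t F)
    (r : (Scheme.Modules.pullback i).obj (Subobject.underlying.obj E) ⟶
      cokernel ((Scheme.Modules.pullback i).map E.arrow))
    (hr : (Scheme.Modules.pullback i).map τ ≫ r = cokernel.π _) :
    ∃ K : Subobject F, Coh.IsQCoh (cokernel K.arrow) ∧ FlatMod.IsFlatOver q (cokernel K.arrow) ∧
      ∀ j (s : Γ(F, V j)), s ∈ secSub E (V j) ↔ ∃ x, s - coeff q (V j) t • x ∈ secSub K (V j) := by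
  have hi : IsClosedImmersion i := isClosedImmersion_of_isPullback hpb hπ
  have hEq := isQCoh_underlying hF hE
  have hF₀ : Coh.IsQCoh ((Scheme.Modules.pullback i).obj F) := by
    have : F.IsQuasicoherent := hF
    exact Groth.Agent.CohqA.PullbackQCoh.isQuasicoherent_pullback i F
  have hE₀ : Coh.IsQCoh ((Scheme.Modules.pullback i).obj (Subobject.underlying.obj E)) := by
    have : (Subobject.underlying.obj E : Z.Modules).IsQuasicoherent := hEq
    exact Groth.Agent.CohqA.PullbackQCoh.isQuasicoherent_pullback i _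
  have hC₀ := Groth.Agent.PerfA.QCohSerre.isQCoh_cokernel ((Scheme.Modules.pullback i).map E.arrow) hE₀ hF₀
  have hV' : ∀ j, IsAffineOpen (i ⁻¹ᵁ V j) := fun j => (hV j).preimage i
  have hτs : ∀ (U : Z.Opens) (x : Γ(F, U)), E.arrow.app U (τ.app U x) = coeff q U t • x := by
    intro U x
    rw [← mulT_app, ← hτ, Scheme.Modules.Hom.comp_app]
    rfl
  -- the map `ρ`
  let ρ := (Scheme.Modules.pullbackPushforwardAdjunction i).homEquiv (Subobject.underlying.obj E) _ r
  have hρ : ∀ (U : Z.Opens) (x : Γ((Subobject.underlying.obj E : Z.Modules), U)),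
      ρ.app U x = 0 ↔ r.app (i ⁻¹ᵁ U) (pb i _ U x) = 0 := by
    intro U x
    rw [← homEquiv_app]
    rfl
  have hρq : Coh.IsQCoh ((Scheme.Modules.pushforward i).obj (cokernel ((Scheme.Modules.pullback i).map E.arrow))) :=
    Groth.Agent.Ega1.QcqsPush.isQCoh_pushforward i _ hC₀
  let K : Subobject F := Subobject.mk ((kernelSubobject ρ).arrow ≫ E.arrow)
  have hK : ∀ (U : Z.Opens) (s : Γ(F, U)), s ∈ secSub K U ↔
      ∃ e, r.app (i ⁻¹ᵁ U) (pb i _ U e) = 0 ∧ E.arrow.app U e = s := by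
    intro U s
    have h0 : s ∈ secSub K U ↔ ∃ t, ((kernelSubobject ρ).arrow ≫ E.arrow).app U t = s :=
      Groth.Agent.Fga.SubobjSec.mem_mk _
    rw [h0]
    constructor
    · rintro ⟨p, rfl⟩
      exact ⟨(kernelSubobject ρ).arrow.app U p, (hρ U _).1 ((mem_kernel_iff ρ).1 ⟨p, rfl⟩), rfl⟩
    · rintro ⟨e, he, rfl⟩
      obtain ⟨p, rfl⟩ := (mem_kernel_iff ρ).2 ((hρ U e).2 he)
      exact ⟨p, rfl⟩
  have hKq : Coh.IsQCoh (cokernel K.arrow) := by
    have h1 : Coh.IsQCoh (Subobject.underlying.obj (kernelSubobject ρ)) :=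
      Groth.Agent.PerfA.QCohSerre.isQCoh_of_iso (kernelSubobjectIso ρ).symm
        (Groth.Agent.PerfA.QCohSerre.isQCoh_kernel ρ hEq hρq)
    exact Groth.Agent.PerfA.QCohSerre.isQCoh_cokernel _
      (Groth.Agent.PerfA.QCohSerre.isQCoh_of_iso (Subobject.underlyingIso _).symm h1) hF
  -- `K ≤ E` on sections
  have hKE : ∀ (U : Z.Opens), secSub K U ≤ secSub E U := by
    intro U s hs
    obtain ⟨e, -, rfl⟩ := (hK U s).1 hs
    exact ⟨e, rfl⟩
  -- `r (pb (τ x)) = π (pb x)`
  have hrτ : ∀ (U : Z.Opens) (x : Γ(F, U)), r.app (i ⁻¹ᵁ U) (pb i _ U (τ.app U x)) =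
      (cokernel.π ((Scheme.Modules.pullback i).map E.arrow)).app (i ⁻¹ᵁ U) (pb i F U x) := by
    intro U x
    rw [← pb_naturality, ← hr, Scheme.Modules.Hom.comp_app]
    rfl
  have hsum : ∀ j (s : Γ(F, V j)), s ∈ secSub E (V j) → ∃ x, s - coeff q (V j) t • x ∈ secSub K (V j) := by
    rintro j _ ⟨e, rfl⟩
    obtain ⟨z, hz⟩ := app_surjective_of_epi (cokernel.π ((Scheme.Modules.pullback i).map E.arrow)) hF₀ hC₀ (hV' j)
      (r.app (i ⁻¹ᵁ V j) (pb i _ (V j) e))
    obtain ⟨x, rfl⟩ := pb_surjective i hF (hV j) z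
    refine ⟨x, (hK _ _).2 ⟨e - τ.app (V j) x, ?_, ?_⟩⟩
    · rw [map_sub, map_sub, hrτ, hz, sub_self]
    · rw [map_sub, hτs]
  have h3 : ∀ j (x : Γ(F, V j)), coeff q (V j) t • x ∈ secSub K (V j) →
      ∃ n ∈ secSub E (V j), x - n ∈ (RingHom.ker π).map (coeff q (V j)) •
        (⊤ : Submodule Γ(Z, V j) Γ(F, V j)) := by
    intro j x hx
    obtain ⟨e, he, he'⟩ := (hK _ _).1 hx
    have h4 : e = τ.app (V j) x := by
      apply app_injective_of_mono E.arrow (V j)
      rw [hτs, he']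
    rw [h4, hrτ] at he
    have h5 : pb i F (V j) x ∈ secSub (kernelSubobject (cokernel.π ((Scheme.Modules.pullback i).map E.arrow)))
      (i ⁻¹ᵁ V j) := (mem_kernel_iff _).2 he
    have h6 : kernelSubobject (cokernel.π ((Scheme.Modules.pullback i).map E.arrow)) =
        imageSubobject ((Scheme.Modules.pullback i).map E.arrow) := by
      have := ShortComplex.exact_cokernel ((Scheme.Modules.pullback i).map E.arrow)
      rw [ShortComplex.exact_iff_image_eq_kernel] at this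
      exact this.symm
    rw [h6, mem_image_iff _ hE₀ hF₀ (hV' j)] at h5
    obtain ⟨z, hz⟩ := h5
    obtain ⟨n, rfl⟩ := pb_surjective i hEq (hV j) z
    rw [pb_naturality] at hz
    refine ⟨_, ⟨n, rfl⟩, ?_⟩
    rw [← ker_app hpb hπ (hV j), ← pb_eq_zero_iff i hF (hV j), map_sub, hz, sub_self]
  refine ⟨K, hKq, ?_, fun j s => ⟨hsum j s, ?_⟩⟩
  · rw [Groth.Agent.Fga.QT2.isFlatOver_iff hF q V hV hc hKq]
    intro j
    exact flat_aux (coeff q (V j)) t (RingHom.ker π) hnil ht (fun b hb => (hm b).2 hb)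
      (flat_sections hF hfl (hV j)) (secSub K (V j)) (secSub E (V j)) (hsum j) (hKE _) (H.h2 j) (h3 j)
  · rintro ⟨x, hx⟩
    have := (secSub E (V j)).add_mem (hKE _ hx) (H.h1 j x)
    rwa [sub_add_cancel] at this

end Ext

section Step

variable {B A C : Type u} [CommRing B] [CommRing A] [CommRing C] {p : B →+* A} {π : B →+* C}
  {Z ZA Z₀ : Scheme.{u}} {a : ZA ⟶ Z} {i : Z₀ ⟶ Z}
  {q : Z ⟶ Spec (CommRingCat.of B)} {qA : ZA ⟶ Spec (CommRingCat.of A)} {q₀ : Z₀ ⟶ Spec (CommRingCat.of C)}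
  (hpA : IsPullback a qA q (Spec.map (CommRingCat.ofHom p)))
  (hpb : IsPullback i q₀ q (Spec.map (CommRingCat.ofHom π)))
  (hp : Function.Surjective p) (hπ : Function.Surjective π)
  {t : B} (ht : RingHom.ker p = Ideal.span {t}) (hm : ∀ b, b * t = 0 ↔ π b = 0)
  {F : Z.Modules} (hF : Coh.IsQCoh F) {FA : ZA.Modules} (hFA : Coh.IsQCoh FA)
  {φ : (Scheme.Modules.pullback a).obj F ≅ FA}
  {ι : Type v} (V : ι → Z.Opens) (hV : ∀ j, IsAffineOpen (V j)) (hc : ⨆ j, V j = ⊤)
  (hfl : FlatMod.IsFlatOver q F) (hflA : FlatMod.IsFlatOver qA FA)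
  {K : Subobject FA} (hK : Coh.IsQCoh (cokernel K.arrow)) (hKfl : FlatMod.IsFlatOver qA (cokernel K.arrow))
  {E : Subobject F} (hEs : ∀ (U : Z.Opens) (s : Γ(F, U)), s ∈ secSub E U ↔ ps a φ U s ∈ secSub K (a ⁻¹ᵁ U))

include hpA hp ht hm hF hFA hV hc hfl hflA hK hKfl hEs in
theorem sat_of_pre : Sat π q V t E := by
  have hca : IsClosedImmersion a := isClosedImmersion_of_isPullback hpA hp
  have hV' : ∀ j, IsAffineOpen (a ⁻¹ᵁ V j) := fun j => (hV j).preimage a
  have hc' : ⨆ j, a ⁻¹ᵁ V j = ⊤ := by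
    rw [← Scheme.Hom.preimage_iSup, hc]
    rfl
  have hpt : p t = 0 := by
    rw [← RingHom.mem_ker, ht]
    exact Ideal.mem_span_singleton_self t
  have hsm : ∀ (U : Z.Opens) (c : B) (x : Γ(F, U)), ps a φ U (coeff q U c • x) =
      coeff qA (a ⁻¹ᵁ U) (p c) • ps a φ U x := by
    intro U c x
    rw [ps_smul]
    congr 1
    exact app_coeff hpA U c
  have hkill : ∀ j (x : Γ(F, V j)), ps a φ (V j) (coeff q (V j) t • x) = 0 := fun j x => by
    rw [hsm, hpt, map_zero, zero_smul]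
  have key := fun j => sat_aux ht hp (RingHom.ker π) hm (coeff q (V j)) (coeff qA (a ⁻¹ᵁ V j)) (ps a φ (V j))
    (ps_surjective a φ hF (hV j)) (hsm (V j)) (ps_eq_zero_iff' ht hF hpA hp (hV j))
    (flat_sections hF hfl (hV j)) (flat_sections hFA hflA (hV' j)) (secSub K (a ⁻¹ᵁ V j))
    ((Groth.Agent.Fga.QT2.isFlatOver_iff hFA qA (fun j => a ⁻¹ᵁ V j) hV' hc' hK).1 hKfl j)
    (secSub E (V j)) (hEs (V j))
  refine ⟨fun j x => ?_, fun j => (key j).1, fun j => (key j).2⟩
  rw [hEs, hkill]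
  exact Submodule.zero_mem _

include hpA hpb hp hπ ht hm hF hFA hV hc hfl hflA hK hKfl hEs in
/-- **Lifting along a small extension from a retraction.** -/
theorem exists_lift_of_retraction [(RingHom.ker π).IsMaximal] (hnil : IsNilpotent (RingHom.ker π)) (htπ : π t = 0)
    (hE : Coh.IsQCoh (cokernel E.arrow)) (τ : F ⟶ Subobject.underlying.obj E) (hτ : τ ≫ E.arrow = mulT q t F)
    (r : (Scheme.Modules.pullback i).obj (Subobject.underlying.obj E) ⟶
      cokernel ((Scheme.Modules.pullback i).map E.arrow))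
    (hr : (Scheme.Modules.pullback i).map τ ≫ r = cokernel.π _) :
    ∃ K' : Subobject F, Coh.IsQCoh (cokernel K'.arrow) ∧ FlatMod.IsFlatOver q (cokernel K'.arrow) ∧
      subPull a φ K' = K := by
  have hca : IsClosedImmersion a := isClosedImmersion_of_isPullback hpA hp
  have hpt : p t = 0 := by
    rw [← RingHom.mem_ker, ht]
    exact Ideal.mem_span_singleton_self t
  have hsm : ∀ (U : Z.Opens) (c : B) (x : Γ(F, U)), ps a φ U (coeff q U c • x) =
      coeff qA (a ⁻¹ᵁ U) (p c) • ps a φ U x := by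
    intro U c x
    rw [ps_smul]
    congr 1
    exact app_coeff hpA U c
  have hkill : ∀ j (x : Γ(F, V j)), ps a φ (V j) (coeff q (V j) t • x) = 0 := fun j x => by
    rw [hsm, hpt, map_zero, zero_smul]
  have hsat := sat_of_pre hpA hp ht hm hF hFA V hV hc hfl hflA hK hKfl hEs
  obtain ⟨K', hK'q, hK'fl, hK's⟩ := exists_sub_of_retraction hF V hV hc hpb hπ hnil htπ hm hfl hE hsat τ hτ r hr
  refine ⟨K', hK'q, hK'fl, ?_⟩
  refine subPull_eq_of a φ V hV hc hF hFA hK'q hK fun j s' => ⟨fun hs' => ?_, ?_⟩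
  · obtain ⟨s, rfl⟩ := ps_surjective a φ hF (hV j) s'
    obtain ⟨x, hx⟩ := (hK's j s).1 ((hEs _ _).2 hs')
    refine ⟨_, hx, ?_⟩
    rw [map_sub, hkill, sub_zero]
  · rintro ⟨s, hs, rfl⟩
    refine (hEs _ _).1 ((hK's j s).2 ⟨0, ?_⟩)
    rwa [smul_zero, sub_zero]

end Step

end K682.QuotRet
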