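import Mathlib.RingTheory.Flat.Basic
import Mathlib.RingTheory.Flat.Tensor
import Mathlib.RingTheory.Ideal.Quotient.Operations
import Mathlib.RingTheory.Ideal.Over
import Mathlib.RingTheory.TensorProduct.Basic
import Mathlib.LinearAlgebra.TensorProduct.Tower
import Mathlib.LinearAlgebra.TensorProduct.RightExactness

/-!
# Deformations of ideals along a square-zero extension: the affine computation

`mu J : B' ⊗ J → B'` and `pr J I : B' ⊗ J → (B / I) ⊗ J`.
-/

set_option autoImplicit false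
universe u

namespace K682.SqZero

open TensorProduct

variable {A' : Type u} [CommRing A'] (J : Ideal A') {B' : Type u} [CommRing B'] [Algebra A' B']

/-- multiplication `B' ⊗ J → B'`. -/
noncomputable def mu : B' ⊗[A'] ↥J →ₗ[A'] B' :=
  (TensorProduct.rid A' B').toLinearMap ∘ₗ LinearMap.lTensor B' (Submodule.subtype J)

theorem mu_def (z : B' ⊗[A'] ↥J) :
    TensorProduct.rid A' B' (LinearMap.lTensor B' (Submodule.subtype J) z) = mu J z := rfl

theorem mu_tmul (b : B') (j : J) : mu J (b ⊗ₜ[A'] j) = algebraMap A' B' j * b := by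
  simp [mu, Algebra.smul_def]

theorem mu_smul (b : B') (z : B' ⊗[A'] ↥J) : mu J (b • z) = b * mu J z := by
  induction z with
  | zero => simp
  | add x y hx hy => rw [smul_add, map_add, map_add, hx, hy, mul_add]
  | tmul x j =>
    rw [TensorProduct.smul_tmul', mu_tmul, mu_tmul, smul_eq_mul]
    ring

theorem mu_mem (z : B' ⊗[A'] ↥J) : mu J z ∈ J.map (algebraMap A' B') := by
  induction z with
  | zero => simp
  | add x y hx hy => rw [map_add]; exact Ideal.add_mem _ hx hy
  | tmul x j =>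
    rw [mu_tmul]
    exact Ideal.mul_mem_right _ _ (Ideal.mem_map_of_mem _ j.2)

theorem exists_mu (b : B') (hb : b ∈ J.map (algebraMap A' B')) : ∃ z : B' ⊗[A'] ↥J, mu J z = b := by
  refine Submodule.span_induction (p := fun b _ => ∃ z : B' ⊗[A'] ↥J, mu J z = b) ?_ ?_ ?_ ?_ hb
  · rintro _ ⟨a, ha, rfl⟩
    exact ⟨1 ⊗ₜ ⟨a, ha⟩, by rw [mu_tmul, mul_one]⟩
  · exact ⟨0, map_zero _⟩
  · rintro x y _ _ ⟨z, rfl⟩ ⟨w, rfl⟩
    exact ⟨z + w, map_add _ _ _⟩
  · rintro a x _ ⟨z, rfl⟩
    exact ⟨a • z, mu_smul J a z⟩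

theorem mu_injective [Module.Flat A' B'] : Function.Injective (mu J (B' := B')) := by
  intro x y h
  refine Module.Flat.lTensor_preserves_injective_linearMap (M := B') (Submodule.subtype J)
    Subtype.val_injective ?_
  exact (TensorProduct.rid A' B').injective h

variable (I : Ideal (B' ⧸ J.map (algebraMap A' B')))

/-- The reduction `B' ⊗ J → (B / I) ⊗ J`. -/
noncomputable def pr : B' ⊗[A'] ↥J →ₗ[A'] (((B' ⧸ J.map (algebraMap A' B')) ⧸ I) ⊗[A'] ↥J) :=
  LinearMap.rTensor ↥J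
    (IsScalarTower.toAlgHom A' B' ((B' ⧸ J.map (algebraMap A' B')) ⧸ I)).toLinearMap

theorem pr_def (z : B' ⊗[A'] ↥J) :
    LinearMap.rTensor ↥J (IsScalarTower.toAlgHom A' B' ((B' ⧸ J.map (algebraMap A' B')) ⧸ I)).toLinearMap z =
      pr J I z := rfl

theorem algebraMap_surj : Function.Surjective
    (algebraMap B' ((B' ⧸ J.map (algebraMap A' B')) ⧸ I)) := by
  intro x
  obtain ⟨x, rfl⟩ := Ideal.Quotient.mk_surjective x
  obtain ⟨x, rfl⟩ := Ideal.Quotient.mk_surjective x
  exact ⟨x, rfl⟩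

theorem pr_surjective : Function.Surjective (pr J I) :=
  LinearMap.rTensor_surjective _ (algebraMap_surj J I)

theorem pr_tmul (b : B') (j : J) : pr J I (b ⊗ₜ[A'] j) =
    (algebraMap B' ((B' ⧸ J.map (algebraMap A' B')) ⧸ I) b) ⊗ₜ j := rfl

theorem pr_smul (b : B') (z : B' ⊗[A'] ↥J) : pr J I (b • z) = b • pr J I z := by
  induction z with
  | zero => simp
  | add x y hx hy => rw [smul_add, map_add, map_add, hx, hy, smul_add]
  | tmul x j =>
    rw [TensorProduct.smul_tmul', pr_tmul, pr_tmul, TensorProduct.smul_tmul', smul_eq_mul, map_mul]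
    rfl

theorem algebraMap_eq_zero_iff (x : B') :
    algebraMap B' ((B' ⧸ J.map (algebraMap A' B')) ⧸ I) x = 0 ↔
      Ideal.Quotient.mk (J.map (algebraMap A' B')) x ∈ I := by
  change Ideal.Quotient.mk I (Ideal.Quotient.mk (J.map (algebraMap A' B')) x) = 0 ↔ _
  exact Ideal.Quotient.eq_zero_iff_mem

theorem pr_eq_zero_of_mu_mem (I₁ : Ideal B') [Module.Flat A' (B' ⧸ I₁)]
    (h : ∀ x ∈ I₁, Ideal.Quotient.mk (J.map (algebraMap A' B')) x ∈ I)
    (z : B' ⊗[A'] ↥J) (hz : mu J z ∈ I₁) : pr J I z = 0 := by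
  let g : (B' ⧸ I₁) →ₐ[A'] ((B' ⧸ J.map (algebraMap A' B')) ⧸ I) :=
    Ideal.Quotient.liftₐ I₁ (IsScalarTower.toAlgHom A' B' ((B' ⧸ J.map (algebraMap A' B')) ⧸ I))
      (fun a ha => (algebraMap_eq_zero_iff J I a).2 (h a ha))
  have hg : (IsScalarTower.toAlgHom A' B' ((B' ⧸ J.map (algebraMap A' B')) ⧸ I)).toLinearMap =
      g.toLinearMap ∘ₗ (Ideal.Quotient.mkₐ A' I₁).toLinearMap := rfl
  have h1 : pr J I z = LinearMap.rTensor ↥J g.toLinearMap
      (LinearMap.rTensor ↥J (Ideal.Quotient.mkₐ A' I₁).toLinearMap z) := by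
    rw [← LinearMap.comp_apply, ← LinearMap.rTensor_comp, ← hg]
    rfl
  have h2 : ∀ w : B' ⊗[A'] ↥J, mu J (LinearMap.rTensor ↥J (Ideal.Quotient.mkₐ A' I₁).toLinearMap w) =
      Ideal.Quotient.mk I₁ (mu J w) := by
    intro w
    induction w with
    | zero => simp
    | add x y hx hy => rw [map_add, map_add, hx, hy, map_add, map_add]
    | tmul x j =>
      rw [LinearMap.rTensor_tmul, mu_tmul, mu_tmul, map_mul]
      rfl
  have h3 : LinearMap.rTensor ↥J (Ideal.Quotient.mkₐ A' I₁).toLinearMap z = 0 := by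
    apply mu_injective J (B' := B' ⧸ I₁)
    rw [h2, map_zero]
    exact Ideal.Quotient.eq_zero_iff_mem.2 hz
  rw [h1, h3, map_zero]

theorem mem_map_iff (I₁ : Ideal B') (x : B' ⧸ J.map (algebraMap A' B')) :
    x ∈ I₁.map (Ideal.Quotient.mk (J.map (algebraMap A' B'))) ↔
      ∃ y ∈ I₁, Ideal.Quotient.mk (J.map (algebraMap A' B')) y = x :=
  Ideal.mem_map_iff_of_surjective _ Ideal.Quotient.mk_surjective

/-- If `I₁` maps onto `I` and `J² = 0` then `mu` sends the kernel of `pr` into `I₁`. -/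
theorem mu_mem_of_pr_eq_zero (hJ : J * J = ⊥) (I₁ : Ideal B')
    (h : I₁.map (Ideal.Quotient.mk (J.map (algebraMap A' B'))) = I)
    (z : B' ⊗[A'] ↥J) (hz : pr J I z = 0) : mu J z ∈ I₁ := by
  let f := (IsScalarTower.toAlgHom A' B' ((B' ⧸ J.map (algebraMap A' B')) ⧸ I)).toLinearMap
  have hex := rTensor_exact ↥J (LinearMap.exact_subtype_ker_map f) (algebraMap_surj J I)
  obtain ⟨w, rfl⟩ := (hex z).1 hz
  clear hz hex
  induction w with
  | zero => simp
  | add x y hx hy => rw [map_add, map_add]; exact I₁.add_mem hx hy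
  | tmul k j =>
    rw [LinearMap.rTensor_tmul, mu_tmul]
    have hk : Ideal.Quotient.mk (J.map (algebraMap A' B')) (k : B') ∈ I :=
      (algebraMap_eq_zero_iff J I _).1 k.2
    have hk' : Ideal.Quotient.mk (J.map (algebraMap A' B')) (k : B') ∈
        I₁.map (Ideal.Quotient.mk (J.map (algebraMap A' B'))) := by
      rw [h]; exact hk
    rw [mem_map_iff] at hk'
    obtain ⟨y, hy, hyk⟩ := hk'
    have hd : (k : B') - y ∈ J.map (algebraMap A' B') := by
      rw [← Ideal.Quotient.eq, hyk]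
    have h0 : algebraMap A' B' (j : A') * ((k : B') - y) = 0 := by
      refine Submodule.span_induction (p := fun b _ => algebraMap A' B' (j : A') * b = 0) ?_ ?_ ?_ ?_ hd
      · rintro _ ⟨a, ha, rfl⟩
        rw [← map_mul]
        have : (j : A') * a ∈ J * J := Ideal.mul_mem_mul j.2 ha
        rw [hJ, Ideal.mem_bot] at this
        rw [this, map_zero]
      · exact mul_zero _
      · intro x y _ _ hx hy
        rw [mul_add, hx, hy, add_zero]
      · intro a x _ hx
        rw [smul_eq_mul, mul_left_comm, hx, mul_zero]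
    rw [mul_sub, sub_eq_zero] at h0
    change algebraMap A' B' (j : A') * (k : B') ∈ I₁
    rw [h0]
    exact I₁.mul_mem_left _ hy

end K682.SqZero
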